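import Cfsg.Agent.SporRec.Ru.Point
import Cfsg.Agent.SporRec.R3.YPart

/-! The rank three configuration of a group as in S1669. -/

set_option autoImplicit false
set_option maxRecDepth 4000
set_option linter.unusedSectionVars false

namespace Cfsg.Agent.SporRec.Ru.Setup

open Finset Cfsg.Agent.SporRec.R3.Config Cfsg.Agent.SporRec.R3.YPart
open Cfsg.Agent.SporRec.Ru.Rep Cfsg.Agent.SporRec.Ru.Point
open Cfsg.Agent.ChevalleyStructure.Tits.Order

variable {Ω : Type*} [Fintype Ω] [DecidableEq Ω]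

/-- the action of `H0` transported by an isomorphism with the point stabiliser -/
noncomputable def actG {G : Subgroup (Equiv.Perm Ω)} {a : Ω} (e : MulAction.stabilizer G a ≃* H0) :
    H0 →* Equiv.Perm Ω :=
  G.subtype.comp ((MulAction.stabilizer G a).subtype.comp e.symm.toMonoidHom)

theorem actG_mem {G : Subgroup (Equiv.Perm Ω)} {a : Ω} (e : MulAction.stabilizer G a ≃* H0) (h : H0) :
    actG e h ∈ G := ((e.symm h : MulAction.stabilizer G a) : G).2

theorem actG_fix {G : Subgroup (Equiv.Perm Ω)} {a : Ω} (e : MulAction.stabilizer G a ≃* H0) (h : H0) :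
    actG e h a = a := (e.symm h : MulAction.stabilizer G a).2

theorem actG_surj {G : Subgroup (Equiv.Perm Ω)} {a : Ω} (e : MulAction.stabilizer G a ≃* H0)
    (g : Equiv.Perm Ω) (hg : g ∈ G) (h : g a = a) : ∃ k, actG e k = g := by
  refine ⟨e ⟨⟨g, hg⟩, h⟩, ?_⟩
  show (((e.symm (e ⟨⟨g, hg⟩, h⟩) : MulAction.stabilizer G a) : G) : Equiv.Perm Ω) = g
  rw [MulEquiv.symm_apply_apply]

theorem mem_orbit_iff {G : Subgroup (Equiv.Perm Ω)} {a : Ω} (e : MulAction.stabilizer G a ≃* H0) (b x : Ω) :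
    x ∈ MulAction.orbit (MulAction.stabilizer G a) b ↔ ∃ h, actG e h b = x := by
  constructor
  · rintro ⟨s, rfl⟩
    refine ⟨e s, ?_⟩
    show (((e.symm (e s) : MulAction.stabilizer G a) : G) : Equiv.Perm Ω) b = _
    rw [MulEquiv.symm_apply_apply]
    rfl
  · rintro ⟨h, rfl⟩
    exact ⟨e.symm h, rfl⟩

open scoped Classical in
/-- the orbit of `b` as a finset -/
noncomputable def orb {G : Subgroup (Equiv.Perm Ω)} {a : Ω} (e : MulAction.stabilizer G a ≃* H0) (b : Ω) :
    Finset Ω := univ.filter fun x => ∃ h, actG e h b = x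

theorem mem_orb {G : Subgroup (Equiv.Perm Ω)} {a : Ω} (e : MulAction.stabilizer G a ≃* H0) (b x : Ω) :
    x ∈ orb e b ↔ ∃ h, actG e h b = x := by simp [orb]

theorem card_orb {G : Subgroup (Equiv.Perm Ω)} {a : Ω} (e : MulAction.stabilizer G a ≃* H0) (b : Ω) :
    (orb e b).card = (MulAction.orbit (MulAction.stabilizer G a) b).ncard := by
  rw [← Set.ncard_coe_finset]
  congr 1
  ext x
  rw [mem_coe, mem_orb, mem_orbit_iff e]

theorem orb_inv {G : Subgroup (Equiv.Perm Ω)} {a : Ω} (e : MulAction.stabilizer G a ≃* H0) (b : Ω)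
    (h : H0) (x : Ω) (hx : x ∈ orb e b) : actG e h x ∈ orb e b := by
  rw [mem_orb] at hx ⊢
  obtain ⟨k, rfl⟩ := hx
  exact ⟨h * k, by rw [map_mul, Equiv.Perm.mul_apply]⟩

theorem orb_trans {G : Subgroup (Equiv.Perm Ω)} {a : Ω} (e : MulAction.stabilizer G a ≃* H0) (b : Ω)
    (x y : Ω) (hx : x ∈ orb e b) (hy : y ∈ orb e b) : ∃ h, actG e h x = y := by
  rw [mem_orb] at hx hy
  obtain ⟨k, rfl⟩ := hx
  obtain ⟨l, rfl⟩ := hy
  exact ⟨l * k⁻¹, by rw [map_mul, Equiv.Perm.mul_apply, map_inv, Equiv.Perm.coe_inv, Equiv.symm_apply_apply]⟩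

theorem orb_eq_of_mem {G : Subgroup (Equiv.Perm Ω)} {a : Ω} (e : MulAction.stabilizer G a ≃* H0) (b c : Ω)
    (h : c ∈ orb e b) : orb e b = orb e c := by
  have hsub : ∀ b c, c ∈ orb e b → orb e c ⊆ orb e b := by
    intro b c h x hx
    rw [mem_orb] at h hx ⊢
    obtain ⟨k, rfl⟩ := h
    obtain ⟨l, rfl⟩ := hx
    exact ⟨l * k, by rw [map_mul, Equiv.Perm.mul_apply]⟩
  apply Finset.Subset.antisymm
  · apply hsub
    rw [mem_orb] at h ⊢
    obtain ⟨k, rfl⟩ := h
    exact ⟨k⁻¹, by rw [map_inv, Equiv.Perm.coe_inv, Equiv.symm_apply_apply]⟩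
  · exact hsub b c h

theorem orb_self {G : Subgroup (Equiv.Perm Ω)} {a : Ω} (e : MulAction.stabilizer G a ≃* H0) (b : Ω) :
    b ∈ orb e b := by rw [mem_orb]; exact ⟨1, by rw [map_one]; rfl⟩

theorem orb_base {G : Subgroup (Equiv.Perm Ω)} {a : Ω} (e : MulAction.stabilizer G a ≃* H0) :
    orb e a = {a} := by
  ext x
  rw [mem_orb, mem_singleton]
  constructor
  · rintro ⟨h, rfl⟩; exact actG_fix e h
  · rintro rfl; exact ⟨1, by rw [map_one]; rfl⟩

/-- the configuration -/
noncomputable def conf (hΩ : Fintype.card Ω = 4060) (G : Subgroup (Equiv.Perm Ω))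
    [MulAction.IsPretransitive G Ω] (a : Ω) (e : MulAction.stabilizer G a ≃* H0) (b c : Ω)
    (hb : (orb e b).card = 1755) (hc : (orb e c).card = 2304) : Conf Ω H0 where
  G := G
  α := a
  act := actG e
  Δ := orb e c
  Λ := orb e b
  trans := fun x y => by
    obtain ⟨g, hg⟩ := MulAction.exists_smul_eq G x y
    exact ⟨g, g.2, hg⟩
  act_mem := actG_mem e
  act_fix := actG_fix e
  act_surj := actG_surj e
  hΔ := fun h x hx => orb_inv e c h x hx
  hΛ := fun h x hx => orb_inv e b h x hx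
  tΔ := fun x hx y hy => orb_trans e c x y hx hy
  tΛ := fun x hx y hy => orb_trans e b x y hx hy
  cover := by
    have h1 : Disjoint (orb e b) (orb e c) := by
      rw [Finset.disjoint_left]
      intro x hx hx'
      have e1 := orb_eq_of_mem e b x hx
      have e2 := orb_eq_of_mem e c x hx'
      rw [e1, ← e2, hc] at hb
      norm_num at hb
    have h2 : Disjoint {a} (orb e b ∪ orb e c) := by
      rw [Finset.disjoint_singleton_left, mem_union, not_or]
      constructor
      · intro h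
        have e1 := orb_eq_of_mem e b a h
        rw [e1, orb_base, card_singleton] at hb
        norm_num at hb
      · intro h
        have e1 := orb_eq_of_mem e c a h
        rw [e1, orb_base, card_singleton] at hc
        norm_num at hc
    have h3 : ({a} ∪ (orb e b ∪ orb e c) : Finset Ω) = univ := by
      rw [← card_eq_iff_eq_univ, card_union_of_disjoint h2, card_union_of_disjoint h1, hb, hc, hΩ, card_singleton]
    intro x
    have h4 : x ∈ ({a} ∪ (orb e b ∪ orb e c) : Finset Ω) := by rw [h3]; exact mem_univ _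
    rw [mem_union, mem_union, mem_singleton] at h4
    rcases h4 with h4 | h4 | h4
    · exact Or.inl h4
    · exact Or.inr (Or.inr h4)
    · exact Or.inr (Or.inl h4)
  αΔ := by
    intro h
    have e1 := orb_eq_of_mem e c a h
    rw [e1, orb_base, card_singleton] at hc
    norm_num at hc
  αΛ := by
    intro h
    have e1 := orb_eq_of_mem e b a h
    rw [e1, orb_base, card_singleton] at hb
    norm_num at hb
  disj := by
    rw [Finset.disjoint_left]
    intro x hx hx'
    have e1 := orb_eq_of_mem e c x hx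
    have e2 := orb_eq_of_mem e b x hx'
    rw [e1, ← e2, hb] at hc
    norm_num at hc
  neΔ := ⟨c, orb_self e c⟩
  neΛ := ⟨b, orb_self e b⟩
  card_ne := by rw [hb, hc]; norm_num

/-- the part `Λ` is the octagon -/
theorem exists_ymap {C : Conf Ω H0} (hΛ : C.Λ.card = 1755) : Nonempty (YMap C ρ) := by
  classical
  obtain ⟨b, hb⟩ := C.neΛ
  set P : Subgroup H0 := (MulAction.stabilizer (Equiv.Perm Ω) b).comap C.act with hP
  have hmem : ∀ h, h ∈ P ↔ C.act h b = b := fun h => Iff.rfl
  have hidx : P.index = 1755 := by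
    let _ : MulAction H0 Ω := MulAction.compHom _ C.act
    have h1 := MulAction.index_stabilizer H0 b
    have h2 : MulAction.orbit H0 b = (C.Λ : Set Ω) := by
      ext x
      constructor
      · rintro ⟨h, rfl⟩; exact C.hΛ h b hb
      · intro hx
        obtain ⟨h, hh⟩ := C.tΛ b hb x hx
        exact ⟨h, hh⟩
    rw [h2, Set.ncard_coe_finset, hΛ] at h1
    exact h1
  obtain ⟨y, hy⟩ := point P hidx
  have hst : ∀ h, ρ h y = y ↔ C.act h b = b := by
    intro h
    rw [← hmem, hy]
    exact Iff.rfl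
  choose t ht using fun z => trans y z
  have key : ∀ h k, ρ h y = ρ k y ↔ C.act h b = C.act k b := by
    intro h k
    have := hst (k⁻¹ * h)
    rw [map_mul, map_mul, Equiv.Perm.mul_apply, Equiv.Perm.mul_apply, map_inv, map_inv,
      Equiv.Perm.inv_eq_iff_eq, Equiv.Perm.inv_eq_iff_eq] at this
    constructor
    · intro h1; exact (this.1 h1)
    · intro h1; exact (this.2 h1)
  refine ⟨⟨fun z => C.act (t z) b, ?_, fun z => C.hΛ _ _ hb, ?_, ?_⟩⟩
  · intro z w hzw
    have := (key _ _).2 hzw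
    rwa [ht, ht] at this
  · intro x hx
    obtain ⟨h, hh⟩ := C.tΛ b hb x hx
    refine ⟨ρ h y, ?_⟩
    rw [← hh]
    apply (key _ _).1
    rw [ht]
  · intro h z
    show C.act (t (ρ h z)) b = C.act h (C.act (t z) b)
    rw [← Equiv.Perm.mul_apply, ← map_mul]
    apply (key _ _).1
    rw [ht, map_mul, Equiv.Perm.mul_apply, ht]

end Cfsg.Agent.SporRec.Ru.Setup
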