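import Cfsg.Agent.SporRec.Ru.Unique
import Cfsg.Agent.SporRec.Ru.Setup

/-! A rank three group as in S1669 is isomorphic with the automorphism group of the Rudvalis graph. -/

set_option autoImplicit false
set_option maxRecDepth 4000
set_option linter.unusedSectionVars false

namespace Cfsg.Agent.SporRec.Ru.RankThree

open Finset Cfsg.Agent.SporRec.R3.Config Cfsg.Agent.SporRec.R3.YPart
open Cfsg.Agent.SporRec.Ru.Rep Cfsg.Agent.SporRec.Ru.Lift Cfsg.Agent.SporRec.Ru.Unique
open Cfsg.Agent.SporRec.Ru.Setup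
open Cfsg.Agent.ChevalleyStructure.Tits.Mat Cfsg.Agent.ChevalleyStructure.Tits.Order
open Cfsg.Agent.SporadicB.RuData Cfsg.Agent.Lib.BitNet

open scoped MatrixGroups

variable {Ω : Type*} [Fintype Ω] [DecidableEq Ω]

/-- the transported group preserves the Rudvalis graph -/
theorem conj_mem {C : Conf Ω H0} (hΔ : C.Δ.card = 2304) (hΩ : Fintype.card Ω = 4060) (M : YMap C ρ)
    (Θ : Fin 4060 ≃ Ω) (hΘ : ∀ u, Θ u = theta hΔ hΩ M u) (g : Equiv.Perm Ω) (hg : g ∈ C.G) :
    Θ.symm.permCongr g ∈ Aut 4060 row := by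
  rw [mem_Aut]
  intro u v
  have key : ort (Θ.symm.permCongr g u) (Θ.symm.permCongr g v) ↔ ort u v := by
    by_cases h : u = v
    · subst h
      exact ⟨fun h => absurd h (ort_irrefl _), fun h => absurd h (ort_irrefl _)⟩
    · have h2 : Θ.symm.permCongr g u ≠ Θ.symm.permCongr g v := fun h' => h ((Θ.symm.permCongr g).injective h')
      have h3 := adj_theta hΔ hΩ M u v h
      have h4 := adj_theta hΔ hΩ M _ _ h2
      rw [← hΘ, ← hΘ] at h3 h4
      have e : ∀ w, Θ (Θ.symm.permCongr g w) = g (Θ w) := by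
        intro w
        rw [Equiv.permCongr_apply]; simp
      rw [e, e, C.adj_smul hg] at h4
      rw [h3] at h4
      exact (not_iff_not.1 h4).symm
  unfold ort at key
  exact Bool.eq_iff_iff.2 key

theorem aux (hΩ : Fintype.card Ω = 4060) (G : Subgroup (Equiv.Perm Ω))
    [MulAction.IsPretransitive G Ω] (a : Ω) (e : MulAction.stabilizer G a ≃* H0) (b c : Ω)
    (hb : (MulAction.orbit (MulAction.stabilizer G a) b).ncard = 1755)
    (hc : (MulAction.orbit (MulAction.stabilizer G a) c).ncard = 2304) :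
    Nonempty (G ≃* Cfsg.Agent.SporadicB.RuOrder.H) := by
  have hb' : (orb e b).card = 1755 := by rw [card_orb, hb]
  have hc' : (orb e c).card = 2304 := by rw [card_orb, hc]
  set C := conf hΩ G a e b c hb' hc' with hC
  have hΔ : C.Δ.card = 2304 := hc'
  obtain ⟨M⟩ : Nonempty (YMap C ρ) := exists_ymap hb'
  set Θ : Fin 4060 ≃ Ω := Equiv.ofBijective _ (theta_bij hΔ hΩ M) with hΘ
  have hmem : ∀ g : G, (Θ.symm.permCongrHom.toMonoidHom.comp G.subtype) g ∈ Cfsg.Agent.SporadicB.RuOrder.H :=
    fun g => conj_mem hΔ hΩ M Θ (fun u => rfl) g.1 g.2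
  set φ : G →* Cfsg.Agent.SporadicB.RuOrder.H :=
    (Θ.symm.permCongrHom.toMonoidHom.comp G.subtype).codRestrict _ hmem with hφ
  have hinj : Function.Injective φ := by
    intro g k h
    have h1 := congrArg Subtype.val h
    apply Subtype.ext
    exact Θ.symm.permCongrHom.injective h1
  have hcG : Nat.card G = 145926144000 := by
    have h1 := Subgroup.card_mul_index (MulAction.stabilizer G a)
    rw [MulAction.index_stabilizer_of_transitive, Nat.card_eq_fintype_card (α := Ω), hΩ,
      Nat.card_congr e.toEquiv, card_H0] at h1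
    omega
  have hbij : Function.Bijective φ := by
    rw [Nat.bijective_iff_injective_and_card]
    exact ⟨hinj, by rw [hcG, Cfsg.Agent.SporadicB.RuOrder.card_H]⟩
  exact ⟨MulEquiv.ofBijective φ hbij⟩

/-- main theorem for subgroups equal to `H0` -/
theorem aux2 (K : Subgroup (GL I52 (ZMod 2))) (hK : K = H0) (hΩ : Fintype.card Ω = 4060)
    (G : Subgroup (Equiv.Perm Ω)) [MulAction.IsPretransitive G Ω] (a : Ω)
    (e : MulAction.stabilizer G a ≃* K) (b c : Ω)
    (hb : (MulAction.orbit (MulAction.stabilizer G a) b).ncard = 1755)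
    (hc : (MulAction.orbit (MulAction.stabilizer G a) c).ncard = 2304) :
    Nonempty (G ≃* Cfsg.Agent.SporadicB.RuOrder.H) := by
  subst hK
  exact aux hΩ G a e b c hb hc

/-- A transitive group on 4060 points with point stabiliser `²F₄(2)` and suborbits 1755 and 2304 is isomorphic
with the automorphism group of the Rudvalis graph. -/
theorem main (hΩ : Fintype.card Ω = 4060) (G : Subgroup (Equiv.Perm Ω)) [MulAction.IsPretransitive G Ω] (a : Ω)
    (e : MulAction.stabilizer G a ≃* Cfsg.Lie.twistedF4 (ZMod 2) 1) (b c : Ω)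
    (hb : (MulAction.orbit (MulAction.stabilizer G a) b).ncard = 1755)
    (hc : (MulAction.orbit (MulAction.stabilizer G a) c).ncard = 2304) :
    Nonempty (G ≃* Cfsg.Agent.SporadicB.RuOrder.H) :=
  aux2 (Cfsg.Lie.twistedF4 (ZMod 2) 1) Cfsg.Agent.ChevalleyStructure.Tits.Main.T0_eq_H0 hΩ G a e b c hb hc

end Cfsg.Agent.SporRec.Ru.RankThree
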