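import Cfsg.Agent.SporRec.Ru.MatchChk
import Cfsg.Agent.SporRec.Ru.Exclude

/-! ²F₄(2) acts on the Rudvalis graph on 4060 points. -/

set_option autoImplicit false
set_option maxRecDepth 4000
set_option linter.unusedSectionVars false

namespace Cfsg.Agent.SporRec.Ru.Lift

open Finset Cfsg.Agent.SporRec.R3.Kernel
open Cfsg.Agent.SporRec.Ru.Data Cfsg.Agent.SporRec.Ru.Rep Cfsg.Agent.SporRec.Ru.Point
open Cfsg.Agent.SporRec.Ru.CertData Cfsg.Agent.SporRec.Ru.NetData Cfsg.Agent.SporRec.Ru.MatchChk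
open Cfsg.Agent.SporRec.Ru.SolveRu (ofMask mem_ofMask)
open Cfsg.Agent.SporRec.R3.Search (force_eq)
open Cfsg.Agent.ChevalleyStructure.Tits.Order
open Cfsg.Agent.SporadicB.RuData Cfsg.Agent.Lib.BitNet

theorem h4060 : 4060 ≤ 2 ^ 12 := by norm_num

/-- embedding of the octagon points -/
def pi (y : Fin 1755) : Fin 4060 := ⟨look PI y, by
  have h := (allB_iff _ _).1 pi_lt y.val y.2
  rw [Nat.ble_eq] at h
  exact h⟩

theorem pi_val (y : Fin 1755) : ((pi y : Fin 4060) : ℕ) = look PI y := rfl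

/-- base point -/
def z0 : Fin 4060 := ⟨0, by norm_num⟩

/-- adjacency (orthogonality) in the Rudvalis graph -/
def ort (u v : Fin 4060) : Prop := (row u).testBit v = true

instance : DecidableRel ort := fun _ _ => inferInstanceAs (Decidable (_ = true))

theorem ort_symm (u v : Fin 4060) : ort u v ↔ ort v u := by
  have := symCheck_sound Cfsg.Agent.SporadicB.RuOrder.sym (lt_of_lt_of_le u.2 h4060) (lt_of_lt_of_le v.2 h4060)
  unfold ort
  rw [this]

theorem ort_irrefl (u : Fin 4060) : ¬ ort u u := by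
  have h := (allB_iff _ _).1 noloop u.val u.2
  intro h2
  have h3 : Nat.testBit (row u.val) u.val = true := h2
  rw [h3] at h
  exact Bool.false_ne_true h

/-- automorphism `s` of the graph matching the element `h` -/
structure Match (h : H0) (s : Equiv.Perm (Fin 4060)) : Prop where
  aut : s ∈ Aut 4060 row
  fix : s z0 = z0
  com : ∀ y, pi (ρ h y) = s (pi y)

theorem Match.one : Match 1 1 :=
  ⟨(Aut 4060 row).one_mem, rfl, fun y => by rw [map_one]; rfl⟩

theorem Match.mul {h k : H0} {s t : Equiv.Perm (Fin 4060)} (a : Match h s) (b : Match k t) :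
    Match (h * k) (s * t) :=
  ⟨(Aut 4060 row).mul_mem a.aut b.aut, by rw [Equiv.Perm.mul_apply, b.fix, a.fix],
    fun y => by rw [map_mul, Equiv.Perm.mul_apply, Equiv.Perm.mul_apply, a.com, b.com]⟩

theorem Match.inv {h : H0} {s : Equiv.Perm (Fin 4060)} (a : Match h s) : Match h⁻¹ s⁻¹ :=
  ⟨(Aut 4060 row).inv_mem a.aut, by rw [Equiv.Perm.inv_eq_iff_eq, a.fix], fun y => by
    rw [Equiv.Perm.eq_inv_iff_eq, ← a.com, map_inv]; simp⟩

theorem Match.ort {h : H0} {s : Equiv.Perm (Fin 4060)} (a : Match h s) (u v : Fin 4060) :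
    ort (s u) (s v) ↔ ort u v := by
  have := a.aut u v
  show (row (s u)).testBit (s v) = true ↔ _
  rw [this]; rfl

theorem match_of {g : Ltr} {net : List (ℕ × ℕ)} (ok : okNet 4060 net = true)
    (hi : invCheck 12 row net = true) (hf : app net 0 = 0) {T : ℕ} (hT : tab g = T)
    (hp : chkPi T net = true) : Match (gen g) (perm (okNet_sound ok)) := by
  refine ⟨perm_mem_Aut (K := 12) h4060 Cfsg.Agent.SporadicB.RuOrder.sym hi _, Fin.ext hf, fun y => ?_⟩
  apply Fin.ext
  have h := (allB_iff _ _).1 hp y.val y.2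
  rw [Nat.beq_eq] at h
  rw [pi_val, perm_apply, pi_val, hgen, hT]
  exact h

theorem match_a : Match (gen .a) (perm (okNet_sound ok_a)) := match_of ok_a inv_a fix_a rfl pi_a
theorem match_m : Match (gen .m) (perm (okNet_sound ok_m)) := match_of ok_m inv_m fix_m rfl pi_m
theorem match_b : Match (gen .b) (perm (okNet_sound ok_b)) := match_of ok_b inv_b fix_b rfl pi_b
theorem match_c : Match (gen .c) (perm (okNet_sound ok_c)) := match_of ok_c inv_c fix_c rfl pi_c

theorem exists_match_letter (g : Ltr) : ∃ s, Match (gen g) s := by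
  cases g with
  | a => exact ⟨_, match_a⟩
  | m => exact ⟨_, match_m⟩
  | b => exact ⟨_, match_b⟩
  | B => exact ⟨_, match_b.inv⟩
  | c => exact ⟨_, match_c⟩
  | C => exact ⟨_, match_c.inv⟩

theorem exists_match (h : H0) : ∃ s, Match h s := by
  have hh : h ∈ Subgroup.closure (Set.range gen) := by rw [closure_gen]; exact Subgroup.mem_top h
  induction hh using Subgroup.closure_induction with
  | mem x hx => obtain ⟨g, rfl⟩ := hx; exact exists_match_letter g
  | one => exact ⟨1, Match.one⟩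
  | mul x y _ _ hx hy =>
    obtain ⟨s, hs⟩ := hx
    obtain ⟨t, ht⟩ := hy
    exact ⟨s * t, hs.mul ht⟩
  | inv x _ hx =>
    obtain ⟨s, hs⟩ := hx
    exact ⟨s⁻¹, hs.inv⟩

/-- the group generated by the networks -/
def Sg : Subgroup (Equiv.Perm (Fin 4060)) := Subgroup.closure
  {perm (okNet_sound ok_a), perm (okNet_sound ok_m), perm (okNet_sound ok_b), perm (okNet_sound ok_c)}

theorem match_of_mem {s : Equiv.Perm (Fin 4060)} (hs : s ∈ Sg) : ∃ h, Match h s := by
  induction hs using Subgroup.closure_induction with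
  | mem x hx =>
    simp only [Set.mem_insert_iff, Set.mem_singleton_iff] at hx
    rcases hx with rfl | rfl | rfl | rfl
    exacts [⟨_, match_a⟩, ⟨_, match_m⟩, ⟨_, match_b⟩, ⟨_, match_c⟩]
  | one => exact ⟨1, Match.one⟩
  | mul x y _ _ hx hy =>
    obtain ⟨s, hs⟩ := hx
    obtain ⟨t, ht⟩ := hy
    exact ⟨s * t, hs.mul ht⟩
  | inv x _ hx =>
    obtain ⟨s, hs⟩ := hx
    exact ⟨s⁻¹, hs.inv⟩

/-! ### the 2304 points -/

/-- points different from `0` and not orthogonal to `0` -/
def D' (x : Fin 4060) : Prop := x ≠ z0 ∧ ¬ ort z0 x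

instance : DecidablePred D' := fun _ => inferInstanceAs (Decidable (_ ∧ _))

theorem testBit_land' (a b i : ℕ) : (Nat.land a b).testBit i = (a.testBit i && b.testBit i) :=
  Nat.testBit_and a b i

theorem testBit_gen (n r x : ℕ) (hx : x < n) :
    (Nat.xor (Nat.xor (Nat.sub (Nat.pow 2 n) 1) r) 1).testBit x = ((!(r.testBit x)) ^^ decide (x = 0)) := by
  have e : Nat.xor (Nat.xor (Nat.sub (Nat.pow 2 n) 1) r) 1 = ((2 ^ n - 1) ^^^ r) ^^^ 1 := rfl
  rw [e, Nat.testBit_xor, Nat.testBit_xor, Nat.testBit_two_pow_sub_one]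
  have h1 : Nat.testBit 1 x = decide (x = 0) := by
    cases x with
    | zero => rfl
    | succ k => simp [Nat.testBit_succ]
  rw [h1]
  simp [hx]

theorem testBit_DM (x : Fin 4060) : DM.testBit x = true ↔ D' x := by
  have e2 : DM.testBit x = ((!((row 0).testBit x)) ^^ decide (x.val = 0)) := by
    unfold DM
    rw [testBit_gen 4060 (row 0) x.val x.2]
  rw [e2]
  have hort : ort z0 x ↔ (row 0).testBit x = true := Iff.rfl
  have hz : x = z0 ↔ x.val = 0 := ⟨fun h => by rw [h]; rfl, fun h => Fin.ext h⟩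
  unfold D'
  rw [hort, ne_eq, hz]
  by_cases h0 : x.val = 0
  · have h1 : ¬ (row 0).testBit x = true := by
      have := ort_irrefl z0
      rw [← hz.2 h0] at this
      rw [← hort, ← hz.2 h0]; exact this
    rw [Bool.not_eq_true] at h1
    rw [h1]; simp [h0]
  · simp [h0]

theorem D'_act {h : H0} {s : Equiv.Perm (Fin 4060)} (a : Match h s) (x : Fin 4060) : D' (s x) ↔ D' x := by
  unfold D'
  have h1 : ort z0 (s x) ↔ ort z0 x := by
    have := a.ort z0 x
    rwa [a.fix] at this
  have h2 : s x = z0 ↔ x = z0 := by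
    constructor
    · intro h; rw [← a.fix] at h; exact s.injective h
    · intro h; rw [h, a.fix]
  rw [h1, ne_eq, ne_eq, h2]

/-- base point of the 2304 points -/
def x0 : Fin 4060 := ⟨2024, by norm_num⟩

theorem D'_x0 : D' x0 := (testBit_DM x0).1 x0_in

theorem InOrbit_gen (k b : ℕ) (hb : b < 4060) : InOrbit Sg ⟨b, hb⟩ (iter [na, nm, nb, nc] k (Nat.pow 2 b)) := by
  refine InOrbit.iter ?_ _ ?_
  · intro g hg
    simp only [List.mem_cons, List.not_mem_nil, or_false] at hg
    rcases hg with rfl | rfl | rfl | rfl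
    · exact ⟨okNet_sound ok_a, Subgroup.subset_closure (by simp)⟩
    · exact ⟨okNet_sound ok_m, Subgroup.subset_closure (by simp)⟩
    · exact ⟨okNet_sound ok_b, Subgroup.subset_closure (by simp)⟩
    · exact ⟨okNet_sound ok_c, Subgroup.subset_closure (by simp)⟩
  · exact InOrbit.single Sg ⟨b, hb⟩

/-- transitivity on the 2304 points -/
theorem exists_match_to {x : Fin 4060} (hx : D' x) : ∃ h s, Match h s ∧ s x0 = x := by
  have h1 := (testBit_DM x).2 hx
  rw [← DM_orb, testBit_land', Bool.and_eq_true] at h1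
  obtain ⟨_, h2⟩ := InOrbit_gen 16 2024 (by norm_num) x.val h1.1
  obtain ⟨s, hs⟩ := h2
  obtain ⟨h, hh⟩ := match_of_mem s.2
  exact ⟨h, s, hh, hs⟩

end Cfsg.Agent.SporRec.Ru.Lift
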