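import Cfsg.Agent.SporRec.Ru.Rep

/-! Every subgroup of index 1755 of ²F₄(2) is the stabiliser of a point of the octagon. -/

set_option autoImplicit false
set_option maxRecDepth 4000
set_option maxHeartbeats 400000

namespace Cfsg.Agent.SporRec.Ru.Point

open Finset Cfsg.Agent.SporRec.R3.Kernel Cfsg.Agent.SporRec.R3.Scheme Cfsg.Agent.SporRec.R3.SchemeK
open Cfsg.Agent.SporRec.Ru.Data Cfsg.Agent.SporRec.Ru.Rep
open Cfsg.Agent.ChevalleyStructure.Tits.Mat Cfsg.Agent.ChevalleyStructure.Tits.Order
open Cfsg.Agent.ChevalleyStructure.Tits.Main Cfsg.Agent.ChevalleyStructure.Tits.Cert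
open Cfsg.Agent.ChevalleyStructure.Tits.Pack

open scoped MatrixGroups

/-- the point `0` -/
def y0 : Fin 1755 := ⟨0, hn⟩

/-! ### `ρ` is injective -/

theorem mul_toMat_of_lt (A : Matrix I52 I52 (ZMod 2)) {v w : ℕ} (hv : v < 2 ^ 52) (hw : w < 2 ^ 52)
    (h : A.mulVec (VecChk.vec v) = VecChk.vec w) : A * toMat v = toMat w := by
  have key : ∀ x, x < 2 ^ 52 → ∀ i j : I52, toMat x i j = if ix j = 0 then VecChk.vec x i else 0 := by
    intro x hx i j
    rw [toMat_apply]
    by_cases hj : ix j = 0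
    · rw [if_pos hj, hj]; simp [VecChk.vec]
    · rw [if_neg hj, Nat.testBit_lt_two_pow (lt_of_lt_of_le hx (Nat.pow_le_pow_right (by norm_num) (by omega)))]
      rfl
  ext i j
  rw [Matrix.mul_apply, key w hw]
  by_cases hj : ix j = 0
  · rw [if_pos hj, ← h, Matrix.mulVec, dotProduct]
    exact Finset.sum_congr rfl (fun x _ => by rw [key v hv, if_pos hj])
  · rw [if_neg hj]
    exact Finset.sum_eq_zero (fun x _ => by rw [key v hv, if_neg hj, mul_zero])

theorem vt_zero : VecChk.vt VT 0 = 2251799813685248 := by decide +kernel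

theorem vs_lt : (List.range 52).all (fun k => Nat.ble (Nat.succ (vs.getD k 0)) 4503599627370496) = true := by
  decide +kernel

theorem rho_injective : Function.Injective ρ := by
  rw [injective_iff_map_eq_one]
  intro n hn1
  apply Subtype.ext
  apply eq_one_of_fix
  intro k hk
  obtain ⟨g, hg, hg2⟩ := reach k hk
  have hvk : vs.getD k 0 < 2 ^ 52 := by
    have h := List.all_eq_true.1 vs_lt k (List.mem_range.2 hk)
    rw [Nat.ble_eq] at h
    exact h
  have e1 : ∀ h : H0, ((h : GL I52 (ZMod 2)) : Matrix I52 I52 (ZMod 2)) * toMat v0 =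
      toMat (VecChk.vt VT (ρ h y0)) := by
    intro h
    apply mul_toMat_of_lt _ (by norm_num [v0]) (VecChk.vt_lt VT _)
    have h1 := act_vv h y0
    have h2 : vv y0 = VecChk.vec v0 := by
      show VecChk.vec (VecChk.vt VT 0) = _
      rw [vt_zero]; rfl
    rw [h2] at h1
    exact h1
  have e2 := e1 (n * ⟨g, hg⟩)
  rw [map_mul, hn1, one_mul] at e2
  have e3 := e1 ⟨g, hg⟩
  rw [← e3] at e2
  rw [← hg2]
  rw [Subgroup.coe_mul, Units.val_mul, Matrix.mul_assoc] at e2
  exact e2

/-! ### stabilisers -/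

/-- the stabiliser of a point -/
noncomputable def St (y : Fin 1755) : Subgroup H0 := (MulAction.stabilizer (Equiv.Perm (Fin 1755)) y).comap ρ

theorem mem_St {y : Fin 1755} {h : H0} : h ∈ St y ↔ ρ h y = y := Iff.rfl

noncomputable instance actH : MulAction H0 (Fin 1755) := MulAction.compHom _ ρ

theorem smul_def (h : H0) (y : Fin 1755) : h • y = ρ h y := rfl

theorem St_eq (y : Fin 1755) : St y = MulAction.stabilizer H0 y := by
  ext h; rfl

theorem card_St (y : Fin 1755) : Nat.card (St y) = 20480 := by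
  have h1 := MulAction.index_stabilizer H0 y
  have h2 : MulAction.orbit H0 y = Set.univ := by
    ext z
    simp only [Set.mem_univ, iff_true]
    obtain ⟨g, hg⟩ := trans y z
    exact ⟨g, hg⟩
  rw [h2, Set.ncard_univ, Nat.card_eq_fintype_card, Fintype.card_fin] at h1
  have h3 := Subgroup.card_mul_index (MulAction.stabilizer H0 y)
  rw [h1, card_H0] at h3
  rw [St_eq]
  omega

open scoped Classical in
/-- the number of images of `y` under a subgroup `K` -/
theorem card_orbit_mul (K : Subgroup H0) (y : Fin 1755) :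
    (univ.filter fun z => ∃ h ∈ K, ρ h y = z).card * Nat.card (K ⊓ St y : Subgroup H0) = Nat.card K := by
  classical
  have h1 := MulAction.index_stabilizer K y
  have h2 := Subgroup.card_mul_index (MulAction.stabilizer K y)
  have h3 : MulAction.orbit K y = ((univ.filter fun z => ∃ h ∈ K, ρ h y = z : Finset (Fin 1755)) : Set (Fin 1755)) := by
    ext z
    simp only [coe_filter, mem_univ, true_and, Set.mem_ofPred_eq]
    constructor
    · rintro ⟨⟨h, hh⟩, rfl⟩; exact ⟨h, hh, rfl⟩
    · rintro ⟨h, hh, rfl⟩; exact ⟨⟨h, hh⟩, rfl⟩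
  have h4 : Nat.card (MulAction.stabilizer K y) = Nat.card (K ⊓ St y : Subgroup H0) := by
    have h5 : (MulAction.stabilizer K y).map K.subtype = K ⊓ St y := by
      ext h
      simp only [Subgroup.mem_map, MulAction.mem_stabilizer_iff, Subgroup.subtype_apply, Subgroup.mem_inf, mem_St]
      constructor
      · rintro ⟨⟨h, hh⟩, h1, rfl⟩; exact ⟨hh, h1⟩
      · rintro ⟨hh, h1⟩; exact ⟨⟨h, hh⟩, h1, rfl⟩
    rw [← h5]
    exact (Subgroup.card_map_of_injective K.subtype_injective).symm
  rw [h3, Set.ncard_coe_finset] at h1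
  rw [← h1, ← h4, mul_comm, h2]

/-! ### classes -/

theorem rng0 : chkRange 1755 cls 0 0 1 = true := by decide +kernel
theorem rng1 : chkRange 1755 cls 1 1 10 = true := by decide +kernel
theorem rng2 : chkRange 1755 cls 2 11 80 = true := by decide +kernel
theorem rng3 : chkRange 1755 cls 3 91 640 = true := by decide +kernel
theorem rng4 : chkRange 1755 cls 4 731 1024 = true := by decide +kernel

theorem cls_le (i : ℕ) : cls i ≤ 4 := by
  unfold cls
  rcases Nat.beq i 0 <;> rcases Nat.ble i 10 <;> rcases Nat.ble i 90 <;> rcases Nat.ble i 730 <;> simp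

/-- class function on points -/
noncomputable def cl (y : Fin 1755) : ℕ := cls y.val

theorem cl_le (y : Fin 1755) : cl y ≤ 4 := cls_le _

/-- class sizes -/
def sz : ℕ → ℕ
  | 0 => 1
  | 1 => 10
  | 2 => 80
  | 3 => 640
  | 4 => 1024
  | _ => 0

theorem card_cl (c : ℕ) (hc : c ≤ 4) : (univ.filter fun y => cl y = c).card = sz c := by
  interval_cases c
  · exact card_D rng0
  · exact card_D rng1
  · exact card_D rng2
  · exact card_D rng3
  · exact card_D rng4

theorem cl_zero {y : Fin 1755} (h : cl y = 0) : y = y0 := by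
  have := (chkRange_spec rng0).2 y.val y.2
  apply Fin.ext
  have h2 := this.1 h
  show y.val = 0
  omega

theorem cl_y0 : cl y0 = 0 := ((chkRange_spec rng0).2 0 (by norm_num)).2 (by norm_num)

/-- a set that is a union of classes -/
theorem card_union (O : Finset (Fin 1755)) (hO : ∀ y ∈ O, ∀ z, cl y = cl z → z ∈ O) :
    ∃ e : Fin 5 → Bool, (∀ y, y ∈ O ↔ ∃ h : cl y < 5, e ⟨cl y, h⟩ = true) ∧
      O.card = ∑ c : Fin 5, if e c = true then sz c else 0 := by
  classical
  refine ⟨fun c => decide (∃ y ∈ O, cl y = c), ?_, ?_⟩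
  · intro y
    constructor
    · intro hy
      exact ⟨by have := cl_le y; omega, by simp only [decide_eq_true_eq]; exact ⟨y, hy, rfl⟩⟩
    · rintro ⟨h, h2⟩
      simp only [decide_eq_true_eq] at h2
      obtain ⟨z, hz, hz2⟩ := h2
      exact hO z hz y hz2
  · have h1 : O.card = ∑ c ∈ range 5, (O.filter fun y => cl y = c).card := by
      rw [card_eq_sum_card_fiberwise (f := cl) (t := range 5)]
      intro y _
      have := cl_le y
      simp only [coe_range, Set.mem_Iio]
      omega
    rw [h1, Finset.sum_range]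
    apply sum_congr rfl
    intro c _
    by_cases h : ∃ y ∈ O, cl y = c
    · simp only [h, decide_true, if_true]
      rw [← card_cl c (by omega)]
      congr 1
      ext y
      simp only [mem_filter, mem_univ, true_and, and_iff_right_iff_imp]
      obtain ⟨z, hz, hz2⟩ := h
      intro hy
      exact hO z hz y (by rw [hy, hz2])
    · simp only [h, decide_false, Bool.false_eq_true, if_false]
      rw [card_eq_zero, filter_eq_empty_iff]
      intro y hy hy2
      exact h ⟨y, hy, hy2⟩

theorem combos : ∀ e : Fin 5 → Bool, (∑ c : Fin 5, if e c = true then sz c else 0) ∣ 20480 →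
    ∀ c c', e c = true → e c' = true → c = c' := by decide +kernel

/-- the classes are invariant under the stabiliser of `0` -/
theorem cl_inv (h : H0) (hh : ρ h y0 = y0) (y : Fin 1755) : cl (ρ h y) = cl y := by
  classical
  set O : Finset (Fin 1755) := univ.filter fun z => ∃ h ∈ St y0, ρ h y = z with hOdef
  have hO : ∀ y ∈ O, ∀ z, cl y = cl z → z ∈ O := by
    intro x hx z hz
    rw [hOdef, mem_filter] at hx ⊢
    obtain ⟨_, k, hk, hk2⟩ := hx
    obtain ⟨s, hs, hs2⟩ := stabTrans x z hz
    refine ⟨mem_univ _, s * k, (St y0).mul_mem hs hk, ?_⟩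
    rw [map_mul, Equiv.Perm.mul_apply, hk2, hs2]
  obtain ⟨e, he1, he2⟩ := card_union O hO
  have hdvd : O.card ∣ 20480 := by
    have h1 := card_orbit_mul (St y0) y
    rw [card_St] at h1
    exact Dvd.intro _ h1
  rw [he2] at hdvd
  have hy : y ∈ O := by rw [hOdef, mem_filter]; exact ⟨mem_univ _, 1, (St y0).one_mem, by simp⟩
  have hy' : ρ h y ∈ O := by rw [hOdef, mem_filter]; exact ⟨mem_univ _, h, hh, rfl⟩
  obtain ⟨a1, a2⟩ := (he1 _).1 hy
  obtain ⟨b1, b2⟩ := (he1 _).1 hy'
  have := combos e hdvd _ _ b2 a2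
  simpa using this

/-! ### collinear points -/

theorem cnt_one : cntC 1755 tab cls 1 (winv inv [Ltr.m]) = 1 := by decide +kernel

theorem m_zero : look (tab .m) 0 = 1 := by decide +kernel

theorem hinv (g : Ltr) : gen (inv g) = (gen g)⁻¹ := by
  have key : ∀ g, ρ (gen (inv g)) = (ρ (gen g))⁻¹ := by
    intro g
    rw [eq_comm, inv_eq_iff_mul_eq_one]
    ext y
    rw [Equiv.Perm.mul_apply, hgen, hgen, Equiv.Perm.one_apply]
    exact (chkPerm_spec (chk_perm g) y y.2).2.2.2
  apply rho_injective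
  rw [key, map_inv]

theorem he4 {G : Type*} [Group G] (s g m : G) : g⁻¹ * (s * m) * m⁻¹ * s⁻¹ = g⁻¹ := by group

theorem card_common (g : H0) (hg : cl (ρ g y0) = 1) :
    (univ.filter fun w => cl w = 1 ∧ cl (ρ g⁻¹ w) = 1).card = 1 := by
  classical
  have hm := cntC_spec (n := 1755) tab gen ρ hgen inv hinv cls 1 [Ltr.m]
  rw [cnt_one] at hm
  have hgm : gw gen [Ltr.m] = gen .m := by simp
  rw [hgm] at hm
  have hm0 : cl (ρ (gen .m) y0) = 1 := by
    unfold cl
    rw [hgen]
    show cls (look (tab .m) 0) = 1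
    rw [m_zero]
    exact ((chkRange_spec rng1).2 1 (by norm_num)).2 (by norm_num)
  obtain ⟨s, hs, hs2⟩ := stabTrans (ρ (gen .m) y0) (ρ g y0) (by
    show cl _ = cl _
    rw [hm0, hg])
  have ht : ρ (g⁻¹ * (s * gen .m)) y0 = y0 := by
    rw [map_mul, Equiv.Perm.mul_apply, map_mul, Equiv.Perm.mul_apply, hs2, map_inv]; simp
  refine Eq.trans ?_ hm
  have : (univ.filter fun w => cl w = 1 ∧ cl (ρ g⁻¹ w) = 1) =
      (univ.filter fun y : Fin 1755 => cls y.val = 1 ∧ cls (ρ (gen .m)⁻¹ y : Fin 1755).val = 1).map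
        (ρ s).toEmbedding := by
    ext w
    rw [Finset.mem_map_equiv, mem_filter, mem_filter]
    have e1 : (Equiv.symm (ρ s)) w = ρ s⁻¹ w := by rw [map_inv]; rfl
    rw [e1]
    have e2 : cls (ρ s⁻¹ w : Fin 1755).val = cl w := cl_inv s⁻¹ (by
      rw [map_inv, Equiv.Perm.inv_eq_iff_eq]; exact hs.symm) w
    have e3 : cls (ρ (gen .m)⁻¹ (ρ s⁻¹ w) : Fin 1755).val = cl (ρ g⁻¹ w) := by
      have h1 := cl_inv _ ht (ρ (gen .m)⁻¹ (ρ s⁻¹ w))
      rw [← Equiv.Perm.mul_apply, ← Equiv.Perm.mul_apply, ← map_mul, ← map_mul, he4 s g (gen .m)] at h1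
      exact h1.symm
    rw [e2, e3]
    simp
  rw [this, card_map]

/-! ### subgroups of index 1755 -/

theorem point_aux (P : Subgroup H0) (hP : Nat.card P = 20480) (T : Subgroup H0) (hTP : T ≤ P)
    (hT : Nat.card T = 4096) (hT0 : T ≤ St y0) : P ≤ St y0 := by
  classical
  set O : Finset (Fin 1755) := univ.filter fun z => ∃ h ∈ P, ρ h y0 = z with hOdef
  have hO1 := card_orbit_mul P y0
  rw [← hOdef, hP] at hO1
  have h0O : y0 ∈ O := by rw [hOdef, mem_filter]; exact ⟨mem_univ _, 1, P.one_mem, by simp⟩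
  have hOP : ∀ g ∈ P, ∀ x, ρ g x ∈ O ↔ x ∈ O := by
    intro g hg x
    rw [hOdef, mem_filter, mem_filter]
    constructor
    · rintro ⟨_, k, hk, hk2⟩
      refine ⟨mem_univ _, g⁻¹ * k, P.mul_mem (P.inv_mem hg) hk, ?_⟩
      rw [map_mul, Equiv.Perm.mul_apply, hk2, map_inv]; simp
    · rintro ⟨_, k, hk, hk2⟩
      refine ⟨mem_univ _, g * k, P.mul_mem hg hk, ?_⟩
      rw [map_mul, Equiv.Perm.mul_apply, hk2]
  have hdvd : 4096 ∣ Nat.card (P ⊓ St y0 : Subgroup H0) := by
    rw [← hT]
    exact Subgroup.card_dvd_of_le (le_inf hTP hT0)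
  obtain ⟨k, hk⟩ := hdvd
  rw [hk] at hO1
  have hO5 : O.card * k = 5 := by
    have : 4096 * (O.card * k) = 4096 * 5 := by rw [← mul_assoc, mul_comm 4096, mul_assoc, hO1]
    exact Nat.eq_of_mul_eq_mul_left (by norm_num) this
  have hcases : O.card = 1 ∨ O.card = 5 := (Nat.dvd_prime Nat.prime_five).1 (Dvd.intro _ hO5)
  rcases hcases with h1 | h5
  · intro g hg
    rw [mem_St]
    obtain ⟨a, ha⟩ := card_eq_one.1 h1
    have e1 : y0 = a := by rw [ha, mem_singleton] at h0O; exact h0O
    have e2 : ρ g y0 ∈ O := (hOP g hg y0).2 h0O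
    rw [ha, mem_singleton] at e2
    rw [e2, ← e1]
  · exfalso
    -- every other point of `O` is collinear with `0`
    have key : ∀ x ∈ O, x ≠ y0 → cl x = 1 := by
      intro x hx hx0
      by_contra hc
      have hc2 : 80 ≤ (univ.filter fun z => ∃ h ∈ St y0, ρ h x = z).card := by
        have h2 : (univ.filter fun z => cl z = cl x).card ≤
            (univ.filter fun z => ∃ h ∈ St y0, ρ h x = z).card := by
          apply card_le_card
          intro z hz
          rw [mem_filter] at hz ⊢
          obtain ⟨s, hs, hs2⟩ := stabTrans x z hz.2.symm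
          exact ⟨mem_univ _, s, hs, hs2⟩
        rw [card_cl _ (cl_le x)] at h2
        have h3 : cl x ≠ 0 := fun h => hx0 (cl_zero h)
        have h4 := cl_le x
        have h5 : cl x = 2 ∨ cl x = 3 ∨ cl x = 4 := by omega
        rcases h5 with h5 | h5 | h5 <;> rw [h5] at h2 <;> simp only [sz] at h2 <;> omega
      have h6 := card_orbit_mul (St y0) x
      rw [card_St] at h6
      have h7 : Nat.card (St y0 ⊓ St x : Subgroup H0) ≤ 256 := by nlinarith
      have h8 := card_orbit_mul T x
      rw [hT] at h8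
      have h9 : Nat.card (T ⊓ St x : Subgroup H0) ≤ Nat.card (St y0 ⊓ St x : Subgroup H0) :=
        Subgroup.card_le_of_le (inf_le_inf_right _ hT0)
      have h10 : (univ.filter fun z => ∃ h ∈ T, ρ h x = z).card ≤ (O.erase y0).card := by
        apply card_le_card
        intro z hz
        rw [mem_filter] at hz
        obtain ⟨_, t, ht, ht2⟩ := hz
        rw [mem_erase]
        refine ⟨?_, ?_⟩
        · rintro rfl
          have h11 : ρ t y0 = y0 := hT0 ht
          exact hx0 ((ρ t).injective (by rw [ht2, h11]))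
        · rw [← ht2]; exact (hOP t (hTP ht) x).2 hx
      rw [card_erase_of_mem h0O, h5] at h10
      have h11 : Nat.card (T ⊓ St x : Subgroup H0) ≤ 256 := le_trans h9 h7
      have h12 : (univ.filter fun z => ∃ h ∈ T, ρ h x = z).card * Nat.card (T ⊓ St x : Subgroup H0) ≤ 4 * 256 :=
        Nat.mul_le_mul h10 h11
      omega
    obtain ⟨x1, hx1⟩ : (O.erase y0).Nonempty := by
      rw [← card_pos, card_erase_of_mem h0O, h5]; norm_num
    rw [mem_erase] at hx1
    have hx1O := hx1.2
    rw [hOdef, mem_filter] at hx1O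
    obtain ⟨_, g, hg, hg2⟩ := hx1O
    have hc := card_common g (by rw [hg2]; exact key x1 hx1.2 hx1.1)
    have hsub : (O.erase y0).erase x1 ⊆ univ.filter fun w => cl w = 1 ∧ cl (ρ g⁻¹ w) = 1 := by
      intro w hw
      rw [mem_erase, mem_erase] at hw
      rw [mem_filter]
      refine ⟨mem_univ _, key w hw.2.2 hw.2.1, ?_⟩
      apply key
      · exact (hOP g⁻¹ (P.inv_mem hg) w).2 hw.2.2
      · intro h
        rw [map_inv, Equiv.Perm.inv_eq_iff_eq, hg2] at h
        exact hw.1 h
    have h13 := card_le_card hsub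
    rw [hc, card_erase_of_mem (mem_erase.2 hx1), card_erase_of_mem h0O, h5] at h13
    omega

theorem point (P : Subgroup H0) (hP : P.index = 1755) : ∃ y : Fin 1755, P = St y := by
  classical
  have hcard : Nat.card P = 20480 := by
    have := Subgroup.card_mul_index P
    rw [hP, card_H0] at this
    omega
  obtain ⟨T⟩ : Nonempty (Sylow 2 P) := inferInstance
  have hTc : Nat.card T = 4096 := by
    have h1 := T.card_eq_multiplicity
    rw [hcard] at h1
    rw [h1]
    have : (20480 : ℕ).factorization 2 = 12 := by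
      rw [show (20480 : ℕ) = 2 ^ 12 * 5 by norm_num, Nat.factorization_mul (by norm_num) (by norm_num),
        Nat.Prime.factorization_pow Nat.prime_two, Nat.Prime.factorization Nat.prime_five]
      simp
    rw [this]; norm_num
  set T' : Subgroup H0 := (T : Subgroup P).map P.subtype with hT'
  have hT'c : Nat.card T' = 4096 := by
    rw [← hTc]
    exact Subgroup.card_map_of_injective P.subtype_injective
  have hT'P : T' ≤ P := by
    rw [hT']
    exact Subgroup.map_subtype_le _
  have hpg : IsPGroup 2 T' := by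
    rw [IsPGroup.iff_card]
    exact ⟨12, by rw [hT'c]; norm_num⟩
  obtain ⟨p, hp⟩ := hpg.nonempty_fixed_point_of_prime_not_dvd_card (Fin 1755) (by
    rw [Nat.card_eq_fintype_card, Fintype.card_fin]; norm_num)
  obtain ⟨g, hg⟩ := exists_to_zero p
  have hfix : ∀ t ∈ T', ρ t p = p := fun t ht => hp ⟨t, ht⟩
  have hgi : ρ g⁻¹ y0 = p := by rw [map_inv, Equiv.Perm.inv_eq_iff_eq]; exact hg.symm
  refine ⟨p, ?_⟩
  have hci : Function.Injective (MulAut.conj g).toMonoidHom := (MulAut.conj g).injective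
  have hc1 := Subgroup.card_map_of_injective (K := P) hci
  have hc2 := Subgroup.card_map_of_injective (K := T') hci
  rw [hcard] at hc1
  rw [hT'c] at hc2
  have h1 := point_aux (P.map (MulAut.conj g).toMonoidHom) hc1
    (T'.map (MulAut.conj g).toMonoidHom) (Subgroup.map_mono hT'P) hc2 (by
      rintro _ ⟨t, ht, rfl⟩
      rw [mem_St]
      show ρ (g * t * g⁻¹) y0 = y0
      rw [map_mul, map_mul, Equiv.Perm.mul_apply, Equiv.Perm.mul_apply, hgi, hfix t ht, hg]
      rfl)
  have h2 : P ≤ St p := by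
    intro x hx
    have h3 := h1 ⟨x, hx, rfl⟩
    rw [mem_St] at h3 ⊢
    have h4 : ρ (g * x * g⁻¹) y0 = y0 := h3
    rw [map_mul, map_mul, Equiv.Perm.mul_apply, Equiv.Perm.mul_apply, hgi] at h4
    apply (ρ g).injective
    rw [h4, hg]; rfl
  apply Subgroup.eq_of_le_of_card_ge h2
  rw [card_St, hcard]

end Cfsg.Agent.SporRec.Ru.Point
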