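import Cfsg.Agent.SporRec.Ru.VecRep
import Cfsg.Agent.SporRec.R3.Search
import Cfsg.Agent.ChevalleyStructure.Tits.Pack

/-! Kernel check that a packed 52 x 52 matrix over `F₂` permutes packed vectors by a table. -/

set_option autoImplicit false

namespace Cfsg.Agent.SporRec.Ru.VecChk

open Cfsg.Agent.SporRec.R3.Kernel
open Cfsg.Agent.SporRec.R3.Search (force force_eq)
open Cfsg.Agent.ChevalleyStructure.Tits.Pack

/-- coordinates -/
abbrev J52 : Type := Fin 4 ⊕ Fin 48

/-- the vector of a number -/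
def vec (x : ℕ) : J52 → ZMod 2 := fun i => bz (x.testBit (ix i))

/-- entry `i` of the packed table of vectors -/
def vt (V i : ℕ) : ℕ := Nat.mod (Nat.shiftRight V (Nat.mul 52 i)) 4503599627370496

/-- block `k` of 52 vectors, `M = 2 ^ 2704` -/
def block (M V k : ℕ) : ℕ := Nat.mod (Nat.shiftRight V (Nat.mul 2704 k)) M

/-- the matrix packed in `L` maps vector `i` to vector `look T i` for all `i < n`, `n ≤ 52 m` -/
noncomputable def chkVec (M V n m L T : ℕ) : Bool :=
  allB (fun k => force (mulP L (block M V k)) (fun R => allB (fun j =>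
    Bool.rec (Nat.beq (Nat.mod (Nat.shiftRight R (Nat.mul 52 j)) 4503599627370496)
      (vt V (look T (Nat.add (Nat.mul 52 k) j)))) true (Nat.ble n (Nat.add (Nat.mul 52 k) j))) 52)) m

theorem ix_surj {j : ℕ} (hj : j < 52) : ∃ i : J52, ix i = j := by
  by_cases h : j < 4
  · exact ⟨Sum.inl ⟨j, h⟩, rfl⟩
  · refine ⟨Sum.inr ⟨j - 4, by omega⟩, ?_⟩
    rw [ix_inr]
    show 4 + (j - 4) = j
    omega

theorem vec_mod (x : ℕ) (i : J52) : vec (x % 4503599627370496) i = bz (x.testBit (ix i)) := by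
  have h3 : (4503599627370496 : ℕ) = 2 ^ 52 := by norm_num
  unfold vec
  rw [h3, Nat.testBit_mod_two_pow]
  simp [ix_lt i]

theorem vec_col (P : ℕ) (jj i : J52) :
    vec (Nat.mod (Nat.shiftRight P (Nat.mul 52 (ix jj))) 4503599627370496) i = toMat P i jj := by
  have h := vec_mod (P >>> (52 * ix jj)) i
  rw [Nat.testBit_shiftRight] at h
  rw [toMat_apply]
  exact h

theorem vt_block {M : ℕ} (hM : M = 2 ^ 2704) (V k : ℕ) (jj i : J52) :
    vec (vt V (52 * k + ix jj)) i = toMat (block M V k) i jj := by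
  have h := vec_mod (V >>> (52 * (52 * k + ix jj))) i
  rw [Nat.testBit_shiftRight] at h
  have h5 : 52 * (52 * k + ix jj) + ix i = 2704 * k + (52 * ix jj + ix i) := by ring
  rw [h5] at h
  have h6 : (block M V k).testBit (52 * ix jj + ix i) = V.testBit (2704 * k + (52 * ix jj + ix i)) := by
    have e : block M V k = (V >>> (2704 * k)) % M := rfl
    rw [e, hM, Nat.testBit_mod_two_pow, Nat.testBit_shiftRight]
    have h1 := ix_lt i
    have h2 := ix_lt jj
    have h4 : 52 * ix jj + ix i < 2704 := by omega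
    simp [h4]
  rw [toMat_apply, h6]
  exact h

theorem chkVec_spec {M V n m L T : ℕ} (hM : M = 2 ^ 2704) (hnm : n ≤ 52 * m)
    (h : chkVec M V n m L T = true) (i : ℕ) (hi : i < n) :
    (toMat L).mulVec (vec (vt V i)) = vec (vt V (look T i)) := by
  unfold chkVec at h
  rw [allB_iff] at h
  have hlt : i / 52 < m := by rw [Nat.div_lt_iff_lt_mul (by norm_num)]; omega
  have h1 := h (i / 52) hlt
  rw [force_eq, allB_iff] at h1
  have h2 := h1 (i % 52) (Nat.mod_lt _ (by norm_num))
  have e0 : Nat.add (Nat.mul 52 (i / 52)) (i % 52) = i := Nat.div_add_mod i 52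
  rw [e0] at h2
  have e1 : Nat.ble n i = false := by
    rw [Bool.eq_false_iff, ne_eq, Nat.ble_eq]; omega
  rw [e1] at h2
  have h3 := Nat.eq_of_beq_eq_true h2
  obtain ⟨jj, hjj⟩ := ix_surj (Nat.mod_lt i (show 0 < 52 by norm_num))
  have e2 : 52 * (i / 52) + ix jj = i := by rw [hjj]; exact Nat.div_add_mod i 52
  funext l
  have key : vec (vt V (look T i)) l = toMat (mulP L (block M V (i / 52))) l jj := by
    rw [← vec_col, hjj, h3]
  have key2 : ∀ x, vec (vt V i) x = toMat (block M V (i / 52)) x jj := by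
    intro x
    rw [← vt_block hM V (i / 52) jj x, e2]
  rw [key, toMat_mulP, Matrix.mul_apply, Matrix.mulVec, dotProduct]
  exact Finset.sum_congr rfl (fun x _ => by rw [key2])

theorem vt_lt (V i : ℕ) : vt V i < 2 ^ 52 := Nat.mod_lt _ (by norm_num)

theorem vec_inj {x y : ℕ} (hx : x < 2 ^ 52) (hy : y < 2 ^ 52) (h : vec x = vec y) : x = y := by
  apply Nat.eq_of_testBit_eq
  intro j
  by_cases hj : j < 52
  · obtain ⟨i, hi⟩ := ix_surj hj
    have h1 := congrFun h i
    unfold vec at h1
    rw [hi] at h1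
    cases hx : x.testBit j <;> cases hy : y.testBit j <;> rw [hx, hy] at h1 <;> first | rfl | (revert h1; decide)
  · rw [Nat.testBit_lt_two_pow (lt_of_lt_of_le hx (Nat.pow_le_pow_right (by norm_num) (by omega))),
      Nat.testBit_lt_two_pow (lt_of_lt_of_le hy (Nat.pow_le_pow_right (by norm_num) (by omega)))]

end Cfsg.Agent.SporRec.Ru.VecChk
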