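import Cfsg.Agent.SporRec.Ru.Data
import Cfsg.Agent.SporRec.Ru.VecChk
import Cfsg.Agent.ChevalleyStructure.Tits.Main

/-! The action of ²F₄(2) on the 1755 points of the octagon. -/

set_option autoImplicit false
set_option maxRecDepth 100000

namespace Cfsg.Agent.SporRec.Ru.Rep

open Cfsg.Agent.SporRec.R3.Kernel Cfsg.Agent.SporRec.R3.Scheme Cfsg.Agent.SporRec.R3.SchemeK
open Cfsg.Agent.SporRec.Ru.Data Cfsg.Agent.SporRec.Ru.VecRep Cfsg.Agent.SporRec.Ru.VecChk
open Cfsg.Agent.ChevalleyStructure.Tits.Pack Cfsg.Agent.ChevalleyStructure.Tits.Data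
  Cfsg.Agent.ChevalleyStructure.Tits.Mat Cfsg.Agent.ChevalleyStructure.Tits.Order
  Cfsg.Agent.ChevalleyStructure.Tits.Main Cfsg.Agent.ChevalleyStructure.Tits.Final

open scoped MatrixGroups

/-! ### the letters -/

/-- the letter `m` as a group element -/
noncomputable def mH : H0 := yH 8 * yH 0 * yH 8
/-- the letter `c` as a group element -/
noncomputable def cH : H0 := yH 9 * yH 7 * yH 9

/-- the letters as group elements -/
noncomputable def gen : Ltr → H0
  | .a => yH 0
  | .m => mH
  | .b => yH 7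
  | .B => (yH 7)⁻¹
  | .c => cH
  | .C => cH⁻¹

theorem coe_m : ((mH : H0) : GL I52 (ZMod 2)) = yG 10 := by
  have e10 := er2 ([10], [8, 0, 8]) (by decide +kernel)
  simp only [List.map_cons, List.map_nil, List.prod_cons, List.prod_nil, mul_one] at e10
  rw [e10, mH, Subgroup.coe_mul, Subgroup.coe_mul, coe_yH (by norm_num), coe_yH (by norm_num), mul_assoc]

theorem coe_c : ((cH : H0) : GL I52 (ZMod 2)) = yG 11 := by
  have e11 := er2 ([11], [9, 7, 9]) (by decide +kernel)
  simp only [List.map_cons, List.map_nil, List.prod_cons, List.prod_nil, mul_one] at e11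
  rw [e11, cH, Subgroup.coe_mul, Subgroup.coe_mul, coe_yH (by norm_num), coe_yH (by norm_num), mul_assoc]

theorem closure_gen : Subgroup.closure (Set.range gen) = ⊤ := by
  have e8 := er2 ([8], [0, 10, 0]) (by decide +kernel)
  have e9 := er2 ([9], [7, 7, 7, 11, 7, 7]) (by decide +kernel)
  simp only [List.map_cons, List.map_nil, List.prod_cons, List.prod_nil, mul_one] at e8 e9
  set S := Subgroup.closure (Set.range gen) with hS
  have ha : yH 0 ∈ S := Subgroup.subset_closure ⟨.a, rfl⟩
  have hm : mH ∈ S := Subgroup.subset_closure ⟨.m, rfl⟩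
  have hb : yH 7 ∈ S := Subgroup.subset_closure ⟨.b, rfl⟩
  have hc : cH ∈ S := Subgroup.subset_closure ⟨.c, rfl⟩
  have h8 : yH 8 = yH 0 * (mH * yH 0) := by
    apply Subtype.ext
    rw [Subgroup.coe_mul, Subgroup.coe_mul, coe_m, coe_yH (by norm_num), coe_yH (by norm_num), e8]
  have h9 : yH 9 = yH 7 * (yH 7 * (yH 7 * (cH * (yH 7 * yH 7)))) := by
    apply Subtype.ext
    rw [Subgroup.coe_mul, Subgroup.coe_mul, Subgroup.coe_mul, Subgroup.coe_mul, Subgroup.coe_mul, coe_c,
      coe_yH (by norm_num), coe_yH (by norm_num), e9]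
  rw [eq_top_iff, ← gen_yH]
  refine gen4 Sat_yH S ha hb ?_ ?_
  · rw [h8]; exact S.mul_mem ha (S.mul_mem hm ha)
  · rw [h9]
    exact S.mul_mem hb (S.mul_mem hb (S.mul_mem hb (S.mul_mem hc (S.mul_mem hb hb))))

/-! ### kernel checks -/

theorem chk_a : chkVec (Nat.pow 2 2704) VT 1755 34 (LP 0) Ta = true := by decide +kernel
theorem chk_m : chkVec (Nat.pow 2 2704) VT 1755 34 (LP 10) Tm = true := by decide +kernel
theorem chk_b : chkVec (Nat.pow 2 2704) VT 1755 34 (LP 7) Tb = true := by decide +kernel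
theorem chk_c : chkVec (Nat.pow 2 2704) VT 1755 34 (LP 11) Tc = true := by decide +kernel

theorem chkp_a : chkPerm 1755 Ta Ta = true := by decide +kernel
theorem chkp_m : chkPerm 1755 Tm Tm = true := by decide +kernel
theorem chkp_b : chkPerm 1755 Tb TB = true := by decide +kernel
theorem chkp_B : chkPerm 1755 TB Tb = true := by decide +kernel
theorem chkp_c : chkPerm 1755 Tc TC = true := by decide +kernel
theorem chkp_C : chkPerm 1755 TC Tc = true := by decide +kernel

/-- the permutation tables are correct -/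
theorem chk_perm (g : Ltr) : chkPerm 1755 (tab g) (tab (inv g)) = true := by
  cases g
  exacts [chkp_a, chkp_m, chkp_b, chkp_B, chkp_c, chkp_C]

/-- the class of a point relative to the point `0` -/
noncomputable def cls (i : ℕ) : ℕ :=
  Bool.rec (Bool.rec (Bool.rec (Bool.rec 4 3 (Nat.ble i 730)) 2 (Nat.ble i 90)) 1 (Nat.ble i 10)) 0 (Nat.beq i 0)

/-- class roots -/
noncomputable def root (c : ℕ) : ℕ :=
  Nat.rec (motive := fun _ => ℕ) 0 (fun c1 _ => Nat.rec (motive := fun _ => ℕ) 1
    (fun c2 _ => Nat.rec (motive := fun _ => ℕ) 11 (fun c3 _ => Nat.rec (motive := fun _ => ℕ) 91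
      (fun _ _ => 731) c3) c2) c1) c

/-- stabiliser words -/
def SW : List (List Ltr) := [[.a], [.B], [.C], [.a, .m, .a, .B, .a, .m, .a]]

theorem chk_stab : chkStab 1755 tab SW cls root = true := by decide +kernel
theorem chk_root : chkRoot tab .m cls root 1755 = true := by decide +kernel

/-- the vectors are different from the vector `0` -/
theorem chk_zero : allB (fun i => Bool.rec (Bool.rec true false (Nat.beq (vt VT i) (vt VT 0))) true
    (Nat.beq i 0)) 1755 = true := by decide +kernel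

/-! ### the action -/

/-- action on vectors -/
noncomputable def act (h : H0) (v : I52 → ZMod 2) : I52 → ZMod 2 :=
  ((h : GL I52 (ZMod 2)) : Matrix I52 I52 (ZMod 2)).mulVec v

theorem act_one (v : I52 → ZMod 2) : act 1 v = v := by
  unfold act
  rw [Subgroup.coe_one, Units.val_one, Matrix.one_mulVec]

theorem act_mul (g h : H0) (v : I52 → ZMod 2) : act (g * h) v = act g (act h v) := by
  unfold act
  rw [Subgroup.coe_mul, Units.val_mul, Matrix.mulVec_mulVec]

/-- the vectors, for a table `V` -/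
def vvG (V n : ℕ) (i : Fin n) : I52 → ZMod 2 := vec (vt V i)

theorem act_of_chk {V n m : ℕ} (hnm : n ≤ 52 * m) {g : H0} {k T : ℕ} (hk : k < 12)
    (hg : (g : GL I52 (ZMod 2)) = yG k)
    (h : chkVec (Nat.pow 2 2704) V n m (LP k) T = true) (i j : Fin n) (hj : (j : ℕ) = look T i) :
    act g (vvG V n i) = vvG V n j := by
  unfold act vvG
  rw [hg, coe_yG hk, hj]
  exact chkVec_spec rfl hnm h i i.2

theorem act_inv_of_chk {V n m : ℕ} (hnm : n ≤ 52 * m) {g : H0} {k T T' : ℕ} (hk : k < 12)
    (hg : (g : GL I52 (ZMod 2)) = yG k)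
    (h : chkVec (Nat.pow 2 2704) V n m (LP k) T = true) (hp : chkPerm n T' T = true) (i j : Fin n)
    (hj : (j : ℕ) = look T' i) : act g⁻¹ (vvG V n i) = vvG V n j := by
  have h1 := act_of_chk hnm hk hg h j i (by rw [hj, (chkPerm_spec hp i i.2).2.1])
  rw [← h1, ← act_mul, inv_mul_cancel, act_one]

theorem zero_of_chk {V n : ℕ} (hn : 0 < n) (h : allB (fun i => Bool.rec (Bool.rec true false
    (Nat.beq (vt V i) (vt V 0))) true (Nat.beq i 0)) n = true) (i : Fin n)
    (h0 : vvG V n i = vvG V n ⟨0, hn⟩) : i = ⟨0, hn⟩ := by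
  have h1 := vec_inj (vt_lt V _) (vt_lt V _) h0
  by_contra hne
  have hne' : i.val ≠ 0 := fun h => hne (Fin.ext h)
  have h2 := (allB_iff _ _).1 h i.val i.2
  have e1 : Nat.beq i.val 0 = false := by rw [Bool.eq_false_iff, ne_eq, Nat.beq_eq]; exact hne'
  have e2 : Nat.beq (vt V i) (vt V 0) = true := by rw [Nat.beq_eq]; exact h1
  rw [e1, e2] at h2
  exact Bool.false_ne_true h2

/-- the vectors -/
noncomputable def vv : Fin 1755 → (I52 → ZMod 2) := vvG VT 1755

theorem act_letter (g : Ltr) : ∀ i j : Fin 1755, (j : ℕ) = look (tab g) i →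
    act (gen g) (vv i) = vv j := by
  cases g with
  | a => exact act_of_chk (by norm_num) (by norm_num) (coe_yH (by norm_num)) chk_a
  | m => exact act_of_chk (by norm_num) (by norm_num) coe_m chk_m
  | b => exact act_of_chk (by norm_num) (by norm_num) (coe_yH (by norm_num)) chk_b
  | B => exact act_inv_of_chk (by norm_num) (by norm_num) (coe_yH (by norm_num)) chk_b chkp_B
  | c => exact act_of_chk (by norm_num) (by norm_num) coe_c chk_c
  | C => exact act_inv_of_chk (by norm_num) (by norm_num) coe_c chk_c chkp_C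

theorem vv_zero (i : Fin 1755) (h : vv i = vv ⟨0, by norm_num⟩) : i = ⟨0, by norm_num⟩ :=
  zero_of_chk (by norm_num) chk_zero i h

theorem hn : 0 < 1755 := by norm_num

theorem main : Function.Injective vv ∧ ∃ ρ : H0 →* Equiv.Perm (Fin 1755),
    (∀ h i, act h (vv i) = vv (ρ h i)) ∧
      (∀ g (y : Fin 1755), ((ρ (gen g) y : Fin 1755) : ℕ) = look (tab g) y) ∧
      ∀ y : Fin 1755, ∃ g, ρ g y = ⟨0, hn⟩ :=
  exists_rho act act_one act_mul hn vv tab inv chk_perm gen
    closure_gen act_letter vv_zero SW cls root chk_stab .m chk_root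

/-- ²F₄(2) acting on the 1755 points -/
noncomputable def ρ : H0 →* Equiv.Perm (Fin 1755) := main.2.choose

theorem vv_injective : Function.Injective vv := main.1

theorem act_vv (h : H0) (i : Fin 1755) : act h (vv i) = vv (ρ h i) := main.2.choose_spec.1 h i

theorem hgen (g : Ltr) (y : Fin 1755) : ((ρ (gen g) y : Fin 1755) : ℕ) = look (tab g) y :=
  main.2.choose_spec.2.1 g y

theorem exists_to_zero (y : Fin 1755) : ∃ g, ρ g y = ⟨0, hn⟩ := main.2.choose_spec.2.2 y

theorem trans (x y : Fin 1755) : ∃ g, ρ g x = y := by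
  obtain ⟨g, hg⟩ := exists_to_zero x
  obtain ⟨h, hh⟩ := exists_to_zero y
  exact ⟨h⁻¹ * g, by rw [map_mul, Equiv.Perm.mul_apply, hg, ← hh, map_inv]; simp⟩

theorem stabTrans : StabTrans ρ ⟨0, hn⟩ (fun y : Fin 1755 => cls y.val) :=
  stabTrans_of_chk hn tab gen ρ hgen SW cls root chk_stab

end Cfsg.Agent.SporRec.Ru.Rep
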