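import Cfsg.Agent.SporRec.R3.Search

/-! Certified search for 0/1 solutions of the systems `#{s | x (lab i s)} = if x i then hi else lo`,
several solutions allowed. -/

set_option autoImplicit false

namespace Cfsg.Agent.SporRec.Ru.SearchM

open Cfsg.Agent.SporRec.R3.Kernel
open Cfsg.Agent.SporRec.R3.Search (tb tb_eq cM cJ force force_eq Cons b2n_le_one sum_ge sum_ge_j sum_le sum_le_j
  xor_testBit_ne xor_testBit_self chkLab chkLab_spec)

/-- certificates -/
inductive Cert
  | z (i j : ℕ) (t : Cert)
  | o (i j : ℕ) (t : Cert)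
  | y (i : ℕ) (t : Cert)
  | n (i : ℕ) (t : Cert)
  | c (i : ℕ)
  | b (j : ℕ) (t1 t0 : Cert)
  | s

/-- lower bound of the right hand side -/
noncomputable def rl (hi lo i ones : ℕ) : ℕ :=
  Bool.rec (motive := fun _ => ℕ) lo hi (Nat.beq (tb ones i) 1)

/-- upper bound of the right hand side -/
noncomputable def rh (hi lo i ones free : ℕ) : ℕ :=
  Bool.rec (motive := fun _ => ℕ) (rl hi lo i ones) hi (Nat.beq (tb free i) 1)

/-- assign the value `1` to `j` -/
noncomputable def set1 (j ones free : ℕ) (k : ℕ → ℕ → Bool) : Bool :=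
  Bool.rec false (Bool.rec false
    (force (Nat.xor ones (Nat.pow 2 j)) fun o => force (Nat.xor free (Nat.pow 2 j)) fun f => k o f)
    (Nat.beq (tb ones j) 0)) (Nat.beq (tb free j) 1)

/-- assign the value `0` to `j` -/
noncomputable def set0 (j ones free : ℕ) (k : ℕ → ℕ → Bool) : Bool :=
  Bool.rec false (Bool.rec false
    (force (Nat.xor free (Nat.pow 2 j)) fun f => k ones f)
    (Nat.beq (tb ones j) 0)) (Nat.beq (tb free j) 1)

noncomputable def run (K len EQ hi lo : ℕ) (ok : ℕ → Bool) (t : Cert) : ℕ → ℕ → Bool :=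
  Cert.rec (motive := fun _ => ℕ → ℕ → Bool)
    (fun i j _ ih ones free =>
      Bool.rec false (Bool.rec false (Bool.rec false (set0 j ones free ih)
        (Nat.ble (Nat.succ (rh hi lo i ones free)) (Nat.add (cM EQ len i ones) (cJ EQ len i j))))
        (Nat.ble (Nat.succ j) K)) (Nat.ble (Nat.succ i) K))
    (fun i j _ ih ones free =>
      Bool.rec false (Bool.rec false (Bool.rec false (set1 j ones free ih)
        (Nat.ble (Nat.succ (Nat.add (cM EQ len i ones) (cM EQ len i free)))
          (Nat.add (rl hi lo i ones) (cJ EQ len i j))))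
        (Nat.ble (Nat.succ j) K)) (Nat.ble (Nat.succ i) K))
    (fun i _ ih ones free =>
      Bool.rec false (Bool.rec false (set1 i ones free ih)
        (Nat.ble (Nat.succ lo) (cM EQ len i ones))) (Nat.ble (Nat.succ i) K))
    (fun i _ ih ones free =>
      Bool.rec false (Bool.rec false (set0 i ones free ih)
        (Nat.ble (Nat.succ (Nat.add (cM EQ len i ones) (cM EQ len i free))) hi)) (Nat.ble (Nat.succ i) K))
    (fun i ones free =>
      Bool.rec false (Bool.rec
          (Nat.ble (Nat.succ (Nat.add (cM EQ len i ones) (cM EQ len i free))) (rl hi lo i ones))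
          true (Nat.ble (Nat.succ (rh hi lo i ones free)) (cM EQ len i ones))) (Nat.ble (Nat.succ i) K))
    (fun j _ _ ih1 ih0 ones free =>
      Bool.rec false (Bool.rec false (set0 j ones free ih0) (set1 j ones free ih1)) (Nat.ble (Nat.succ j) K))
    (fun ones free => Bool.rec false (ok ones) (Nat.beq free 0))
    t

variable {K len EQ hi lo : ℕ} {x : ℕ → Bool}

theorem rl_le (hlh : lo ≤ hi) (heq : ∀ i < K, ∑ s ∈ Finset.range len, b2n (x (look EQ (len * i + s))) =
      if x i = true then hi else lo) {i ones free : ℕ} (hi' : i < K) (hc : Cons K x ones free) :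
    rl hi lo i ones ≤ ∑ s ∈ Finset.range len, b2n (x (look EQ (len * i + s))) := by
  rw [heq i hi']
  unfold rl
  rw [tb_eq]
  cases h : ones.testBit i with
  | true => rw [(hc i hi').1 h]; exact le_rfl
  | false =>
    show lo ≤ _
    split_ifs
    · exact hlh
    · exact le_rfl

theorem le_rh (hlh : lo ≤ hi) (heq : ∀ i < K, ∑ s ∈ Finset.range len, b2n (x (look EQ (len * i + s))) =
      if x i = true then hi else lo) {i ones free : ℕ} (hi' : i < K) (hc : Cons K x ones free) :
    ∑ s ∈ Finset.range len, b2n (x (look EQ (len * i + s))) ≤ rh hi lo i ones free := by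
  rw [heq i hi']
  unfold rh rl
  rw [tb_eq, tb_eq]
  cases hf : free.testBit i with
  | true =>
    show _ ≤ hi
    split_ifs
    · exact le_rfl
    · exact hlh
  | false =>
    cases h : ones.testBit i with
    | true =>
      show _ ≤ hi
      split_ifs
      · exact le_rfl
      · exact hlh
    | false => rw [(hc i hi').2 h hf]; exact le_rfl

theorem tb_one {m j : ℕ} (h : tb m j = 1) : m.testBit j = true := by
  rw [tb_eq] at h; cases hb : m.testBit j with
  | true => rfl
  | false => rw [hb] at h; exact absurd h (by decide)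

theorem tb_zero {m j : ℕ} (h : tb m j = 0) : m.testBit j = false := by
  rw [tb_eq] at h; cases hb : m.testBit j with
  | false => rfl
  | true => rw [hb] at h; exact absurd h (by decide)

theorem set1_sound {j ones free : ℕ} {k : ℕ → ℕ → Bool} (h : set1 j ones free k = true)
    (hc : Cons K x ones free) (hx : x j = true) :
    ∃ o f, k o f = true ∧ Cons K x o f := by
  unfold set1 at h
  simp only [and3, Bool.and_eq_true, Nat.beq_eq, force_eq] at h
  obtain ⟨_, h2, h3⟩ := h
  have b2 := tb_zero h2
  refine ⟨_, _, h3, ?_⟩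
  intro l hl
  by_cases hkj : l = j
  · rw [hkj]
    refine ⟨fun _ => hx, fun h1 _ => ?_⟩
    rw [xor_testBit_self, b2] at h1
    exact absurd h1 (by decide)
  · rw [xor_testBit_ne _ hkj, xor_testBit_ne _ hkj]
    exact hc l hl

theorem set0_sound {j ones free : ℕ} {k : ℕ → ℕ → Bool} (h : set0 j ones free k = true)
    (hc : Cons K x ones free) (hx : x j = false) :
    ∃ o f, k o f = true ∧ Cons K x o f := by
  unfold set0 at h
  simp only [and3, Bool.and_eq_true, Nat.beq_eq, force_eq] at h
  obtain ⟨_, _, h3⟩ := h
  refine ⟨_, _, h3, ?_⟩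
  intro l hl
  refine ⟨(hc l hl).1, fun h1 h2 => ?_⟩
  by_cases hkj : l = j
  · rw [hkj]; exact hx
  · rw [xor_testBit_ne _ hkj] at h2
    exact (hc l hl).2 h1 h2

theorem set1_bits {j ones free : ℕ} {k : ℕ → ℕ → Bool} (h : set1 j ones free k = true) :
    free.testBit j = true ∧ ones.testBit j = false := by
  unfold set1 at h
  simp only [and3, Bool.and_eq_true, Nat.beq_eq, force_eq] at h
  exact ⟨tb_one h.1, tb_zero h.2.1⟩

theorem set0_bits {j ones free : ℕ} {k : ℕ → ℕ → Bool} (h : set0 j ones free k = true) :
    free.testBit j = true ∧ ones.testBit j = false := by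
  unfold set0 at h
  simp only [and3, Bool.and_eq_true, Nat.beq_eq, force_eq] at h
  exact ⟨tb_one h.1, tb_zero h.2.1⟩

theorem run_sound (hlh : lo ≤ hi) (ok : ℕ → Bool)
    (hl : ∀ i < K, ∀ s < len, look EQ (len * i + s) < K)
    (heq : ∀ i < K, ∑ s ∈ Finset.range len, b2n (x (look EQ (len * i + s))) =
      if x i = true then hi else lo) (t : Cert) :
    ∀ ones free, run K len EQ hi lo ok t ones free = true → Cons K x ones free →
      ∃ m, ok m = true ∧ ∀ j < K, x j = m.testBit j := by
  induction t with
  | z i j t ih =>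
    intro ones free h hc
    change (Bool.rec false (Bool.rec false (Bool.rec false (set0 j ones free (run K len EQ hi lo ok t))
        (Nat.ble (Nat.succ (rh hi lo i ones free)) (Nat.add (cM EQ len i ones) (cJ EQ len i j))) : Bool)
        (Nat.ble (Nat.succ j) K) : Bool) (Nat.ble (Nat.succ i) K) : Bool) = true at h
    simp only [and3, Bool.and_eq_true, Nat.ble_eq] at h
    obtain ⟨hi', _, hlt, hs⟩ := h
    obtain ⟨hf, ho⟩ := set0_bits hs
    have hxj : x j = false := by
      by_contra hx
      rw [Bool.not_eq_false] at hx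
      have e1 := sum_ge_j hl hi' hc ho hx
      have e2 := le_rh hlh heq hi' hc
      have : rh hi lo i ones free + 1 ≤ cM EQ len i ones + cJ EQ len i j := hlt
      omega
    obtain ⟨o, f, h1, h2⟩ := set0_sound hs hc hxj
    exact ih o f h1 h2
  | o i j t ih =>
    intro ones free h hc
    change (Bool.rec false (Bool.rec false (Bool.rec false (set1 j ones free (run K len EQ hi lo ok t))
        (Nat.ble (Nat.succ (Nat.add (cM EQ len i ones) (cM EQ len i free)))
          (Nat.add (rl hi lo i ones) (cJ EQ len i j))) : Bool)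
        (Nat.ble (Nat.succ j) K) : Bool) (Nat.ble (Nat.succ i) K) : Bool) = true at h
    simp only [and3, Bool.and_eq_true, Nat.ble_eq] at h
    obtain ⟨hi', _, hlt, hs⟩ := h
    obtain ⟨hf, ho⟩ := set1_bits hs
    have hxj : x j = true := by
      by_contra hx
      rw [Bool.not_eq_true] at hx
      have e1 := sum_le_j hl hi' hc hf hx
      have e2 := rl_le hlh heq hi' hc
      have : cM EQ len i ones + cM EQ len i free + 1 ≤ rl hi lo i ones + cJ EQ len i j := hlt
      omega
    obtain ⟨o, f, h1, h2⟩ := set1_sound hs hc hxj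
    exact ih o f h1 h2
  | y i t ih =>
    intro ones free h hc
    change (Bool.rec false (Bool.rec false (set1 i ones free (run K len EQ hi lo ok t))
        (Nat.ble (Nat.succ lo) (cM EQ len i ones)) : Bool) (Nat.ble (Nat.succ i) K) : Bool) = true at h
    simp only [and3, Bool.and_eq_true, Nat.ble_eq] at h
    obtain ⟨hi', hlt, hs⟩ := h
    have hxj : x i = true := by
      by_contra hx
      have e1 := sum_ge hl hi' hc
      have e2 := heq i hi'
      rw [if_neg hx] at e2
      have : lo + 1 ≤ cM EQ len i ones := hlt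
      omega
    obtain ⟨o, f, h1, h2⟩ := set1_sound hs hc hxj
    exact ih o f h1 h2
  | n i t ih =>
    intro ones free h hc
    change (Bool.rec false (Bool.rec false (set0 i ones free (run K len EQ hi lo ok t))
        (Nat.ble (Nat.succ (Nat.add (cM EQ len i ones) (cM EQ len i free))) hi) : Bool)
          (Nat.ble (Nat.succ i) K) : Bool) = true at h
    simp only [and3, Bool.and_eq_true, Nat.ble_eq] at h
    obtain ⟨hi', hlt, hs⟩ := h
    have hxj : x i = false := by
      by_contra hx
      rw [Bool.not_eq_false] at hx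
      have e1 := sum_le hl hi' hc
      have e2 := heq i hi'
      rw [if_pos hx] at e2
      have : cM EQ len i ones + cM EQ len i free + 1 ≤ hi := hlt
      omega
    obtain ⟨o, f, h1, h2⟩ := set0_sound hs hc hxj
    exact ih o f h1 h2
  | c i =>
    intro ones free h hc
    change (Bool.rec false (Bool.rec
          (Nat.ble (Nat.succ (Nat.add (cM EQ len i ones) (cM EQ len i free))) (rl hi lo i ones))
          true (Nat.ble (Nat.succ (rh hi lo i ones free)) (cM EQ len i ones)) : Bool)
          (Nat.ble (Nat.succ i) K) : Bool) = true at h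
    simp only [and3, or3, Bool.and_eq_true, Bool.or_eq_true, Nat.ble_eq] at h
    obtain ⟨hi', hlt⟩ := h
    exfalso
    have e1 := sum_ge hl hi' hc
    have e2 := sum_le hl hi' hc
    have e3 := rl_le hlh heq hi' hc
    have e4 := le_rh hlh heq hi' hc
    rcases hlt with h1 | h1
    · have : rh hi lo i ones free + 1 ≤ cM EQ len i ones := h1
      omega
    · have : cM EQ len i ones + cM EQ len i free + 1 ≤ rl hi lo i ones := h1
      omega
  | b j t1 t0 ih1 ih0 =>
    intro ones free h hc
    change (Bool.rec false (Bool.rec false (set0 j ones free (run K len EQ hi lo ok t0))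
      (set1 j ones free (run K len EQ hi lo ok t1)) : Bool) (Nat.ble (Nat.succ j) K) : Bool) = true at h
    simp only [and3, Bool.and_eq_true, Nat.ble_eq] at h
    obtain ⟨_, hr1, hr0⟩ := h
    cases hxj : x j with
    | true =>
      obtain ⟨o, f, h1, h2⟩ := set1_sound hr1 hc hxj
      exact ih1 o f h1 h2
    | false =>
      obtain ⟨o, f, h1, h2⟩ := set0_sound hr0 hc hxj
      exact ih0 o f h1 h2
  | s =>
    intro ones free h hc
    change (Bool.rec false (ok ones) (Nat.beq free 0) : Bool) = true at h
    simp only [and3, Bool.and_eq_true, Nat.beq_eq] at h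
    obtain ⟨h1, h2⟩ := h
    refine ⟨ones, h2, fun j hj => ?_⟩
    cases hb : ones.testBit j with
    | true => rw [(hc j hj).1 hb]
    | false => rw [(hc j hj).2 hb (by rw [h1]; simp)]

/-- top level -/
theorem search_sound (hlh : lo ≤ hi) (ok : ℕ → Bool) (t : Cert) (hlab : chkLab K len EQ = true)
    (hrun : run K len EQ hi lo ok t 0 (2 ^ K - 1) = true)
    (heq : ∀ i < K, ∑ s ∈ Finset.range len, b2n (x (look EQ (len * i + s))) =
      if x i = true then hi else lo) : ∃ m, ok m = true ∧ ∀ j < K, x j = m.testBit j := by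
  apply run_sound hlh ok (chkLab_spec hlab) heq t 0 _ hrun
  intro j hj
  refine ⟨fun h => by simp at h, fun _ h => ?_⟩
  rw [Nat.testBit_two_pow_sub_one] at h
  simp [hj] at h

end Cfsg.Agent.SporRec.Ru.SearchM
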