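import Cfsg.Agent.SporRec.Ru.Eqn
import Cfsg.Agent.SporRec.Ru.CertData

/-! The sets `S d` fixed by the subgroup `F` of order 25. -/

set_option autoImplicit false
set_option maxRecDepth 4000
set_option linter.unusedSectionVars false

namespace Cfsg.Agent.SporRec.Ru.SolveRu

open Finset Cfsg.Agent.SporRec.R3.Config Cfsg.Agent.SporRec.R3.YPart Cfsg.Agent.SporRec.R3.Kernel
open Cfsg.Agent.SporRec.R3.Scheme Cfsg.Agent.SporRec.R3.SchemeK
open Cfsg.Agent.SporRec.R3.Search (chkLab)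
open Cfsg.Agent.SporRec.Ru.Data Cfsg.Agent.SporRec.Ru.Rep Cfsg.Agent.SporRec.Ru.Point Cfsg.Agent.SporRec.Ru.Eqn
open Cfsg.Agent.SporRec.Ru.CertData Cfsg.Agent.SporRec.Ru.SearchM
open Cfsg.Agent.ChevalleyStructure.Tits.Order

/-! ### the elements of order five -/

/-- iterate a word on a point -/
noncomputable def itr (w : List Ltr) (k i : ℕ) : ℕ :=
  Nat.rec (motive := fun _ => ℕ) i (fun _ ih => evalW tab w ih) k

theorem itr_spec (w : List Ltr) (k : ℕ) (y : Fin 1755) :
    ((ρ (gw gen w ^ k) y : Fin 1755) : ℕ) = itr w k y := by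
  induction k with
  | zero => rw [pow_zero, map_one]; rfl
  | succ k ih =>
    rw [pow_succ', map_mul, Equiv.Perm.mul_apply, evalW_spec gen ρ tab hgen, ih]
    rfl

/-- first generator -/
noncomputable def e1 : H0 := gw gen f1w
/-- square root of the second generator -/
noncomputable def e2 : H0 := gw gen f2w

theorem chk5_1 : allB (fun i => Nat.beq (itr f1w 5 i) i) 1755 = true := by decide +kernel
theorem chk5_2 : allB (fun i => Nat.beq (itr f2w 10 i) i) 1755 = true := by decide +kernel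
theorem chk5_c : allB (fun i => Nat.beq (itr f1w 1 (itr f2w 2 i)) (itr f2w 2 (itr f1w 1 i))) 1755 = true := by
  decide +kernel

theorem e1_pow : e1 ^ 5 = 1 := by
  apply rho_injective
  rw [map_one]
  ext y
  have := (allB_iff _ _).1 chk5_1 y.val y.2
  rw [Nat.beq_eq] at this
  have h := itr_spec f1w 5 y
  rw [this] at h
  exact h

theorem e2_pow : e2 ^ 10 = 1 := by
  apply rho_injective
  rw [map_one]
  ext y
  have := (allB_iff _ _).1 chk5_2 y.val y.2
  rw [Nat.beq_eq] at this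
  have h := itr_spec f2w 10 y
  rw [this] at h
  exact h

theorem comm : e1 * e2 ^ 2 = e2 ^ 2 * e1 := by
  apply rho_injective
  rw [map_mul, map_mul]
  ext y
  rw [Equiv.Perm.mul_apply, Equiv.Perm.mul_apply]
  have := (allB_iff _ _).1 chk5_c y.val y.2
  rw [Nat.beq_eq] at this
  have h1 := itr_spec f1w 1 (ρ (e2 ^ 2) y)
  have h2 := itr_spec f2w 2 y
  have h3 := itr_spec f2w 2 (ρ e1 y)
  have h4 := itr_spec f1w 1 y
  rw [pow_one] at h1 h4
  change ((ρ (e2 ^ 2) y : Fin 1755) : ℕ) = _ at h2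
  change ((ρ e1 (ρ (e2 ^ 2) y) : Fin 1755) : ℕ) = _ at h1
  change ((ρ (e2 ^ 2) (ρ e1 y) : Fin 1755) : ℕ) = _ at h3
  change ((ρ e1 y : Fin 1755) : ℕ) = _ at h4
  rw [h1, h2, h3, h4]
  exact this

/-! ### a fixed point in `Δ` -/

variable {Ω : Type*} [Fintype Ω] [DecidableEq Ω] {C : Conf Ω H0}

theorem isPGroup_zpowers {G : Type*} [Group G] {g : G} (h : g ^ 5 = 1) : IsPGroup 5 (Subgroup.zpowers g) := by
  rintro ⟨x, hx⟩
  obtain ⟨k, rfl⟩ := Subgroup.mem_zpowers_iff.1 hx
  refine ⟨1, ?_⟩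
  apply Subtype.ext
  show (g ^ k) ^ 5 ^ 1 = 1
  rw [pow_one, ← zpow_natCast, ← zpow_mul, mul_comm, zpow_mul, zpow_natCast, h, one_zpow]

theorem zpowers_le_normalizer {G : Type*} [Group G] {a b : G} (h : a * b = b * a) :
    Subgroup.zpowers a ≤ Subgroup.normalizer (Subgroup.zpowers b : Set G) := by
  rw [Subgroup.zpowers_le, Subgroup.mem_normalizer_iff]
  have key : ∀ x ∈ Subgroup.zpowers b, a * x * a⁻¹ = x := by
    intro x hx
    obtain ⟨k, rfl⟩ := Subgroup.mem_zpowers_iff.1 hx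
    have hc : Commute a b := h
    rw [(hc.zpow_right k).eq, mul_inv_cancel_right]
  intro x
  constructor
  · intro hx; rw [key x hx]; exact hx
  · intro hx
    have h2 := key _ hx
    have h3 : x = a * x * a⁻¹ := by
      have h4 : a * (a * x * a⁻¹) = (a * x * a⁻¹) * a := by
        rw [mul_inv_eq_iff_eq_mul] at h2
        exact h2
      rw [inv_mul_cancel_right] at h4
      exact (mul_left_cancel h4).symm
    rw [h3]; exact hx

theorem fixed_of_two {G X : Type*} [Group G] [MulAction G X] {a b : G} (ha : a ^ 5 = 1) (hb : b ^ 5 = 1)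
    (hab : a * b = b * a) (hX : ¬ 5 ∣ Nat.card X) : ∃ x : X, a • x = x ∧ b • x = x := by
  have hF := IsPGroup.to_sup_of_normal_right' (isPGroup_zpowers ha) (isPGroup_zpowers hb)
    (zpowers_le_normalizer hab)
  have : Fact (Nat.Prime 5) := ⟨Nat.prime_five⟩
  obtain ⟨p, hp⟩ := hF.nonempty_fixed_point_of_prime_not_dvd_card X hX
  exact ⟨p, hp ⟨a, Subgroup.mem_sup_left (Subgroup.mem_zpowers a)⟩,
    hp ⟨b, Subgroup.mem_sup_right (Subgroup.mem_zpowers b)⟩⟩

theorem e22_pow : (e2 ^ 2) ^ 5 = 1 := by rw [← pow_mul]; exact e2_pow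

/-- the action of `H0` on `Δ` -/
@[reducible] noncomputable def actΔ (C : Conf Ω H0) : MulAction H0 {x // x ∈ C.Δ} where
  smul := fun h x => ⟨C.act h x, C.hΔ h x x.2⟩
  one_smul := fun x => Subtype.ext (by show C.act 1 x = x; rw [map_one]; rfl)
  mul_smul := fun g h x => Subtype.ext (by
    show C.act (g * h) x = C.act g (C.act h x)
    rw [map_mul]; rfl)

theorem exists_fixed (hΔ : C.Δ.card = 2304) : ∃ d ∈ C.Δ, C.act e1 d = d ∧ C.act (e2 ^ 2) d = d := by
  let _ : MulAction H0 {x // x ∈ C.Δ} := actΔ C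
  obtain ⟨p, h1, h2⟩ := fixed_of_two (X := {x // x ∈ C.Δ}) e1_pow e22_pow comm (by
    rw [Nat.card_eq_fintype_card, Fintype.card_coe, hΔ]; norm_num)
  exact ⟨p, p.2, congrArg Subtype.val h1, congrArg Subtype.val h2⟩

/-! ### the linear system -/

/-- word number `i` -/
def HW (i : ℕ) : List Ltr := HWL.getD i []

theorem chk_lab : allB (fun i => Nat.beq (itr f1w (Nat.div (look EX i) 5) (itr f2w (Nat.mul 2 (Nat.mod (look EX i) 5)) i))
    (evalW tab (HW (look LAB i)) 0)) 1755 = true := by decide +kernel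

theorem chk_lab_lt : allB (fun i => Nat.ble (Nat.succ (look LAB i)) 75) 1755 = true := by decide +kernel

theorem chk_EQ : allB (fun i => allB (fun s => Nat.beq (look LAB (evalW tab (HW i) (Nat.succ s)))
    (look EQ (Nat.add (Nat.mul 10 i) s))) 10) 75 = true := by decide +kernel

/-- acceptable solutions -/
noncomputable def okS (m : ℕ) : Bool := anyL (fun s => Nat.beq m s) [G0, G1, G2, G3, B0, B1, B2, B3]

theorem lab_ok : chkLab 75 10 EQ = true := by decide +kernel
theorem run_ok : run 75 10 EQ 6 5 okS cert 0 (Nat.sub (Nat.pow 2 75) 1) = true := by decide +kernel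

/-- the point with label `j` -/
noncomputable def rp (j : ℕ) : Fin 1755 := ρ (gw gen (HW j)) y0

theorem rp_val (j : ℕ) : ((rp j : Fin 1755) : ℕ) = evalW tab (HW j) 0 := evalW_spec gen ρ tab hgen (HW j) y0

/-- `F`-invariant sets -/
theorem inv_lab {S : Fin 1755 → Prop} (h1 : ∀ y, S (ρ e1 y) ↔ S y) (h2 : ∀ y, S (ρ (e2 ^ 2) y) ↔ S y)
    (y : Fin 1755) : S y ↔ S (rp (look LAB y)) := by
  have k1 : ∀ k y, S (ρ (e1 ^ k) y) ↔ S y := by
    intro k
    induction k with
    | zero => intro y; rw [pow_zero, map_one]; rfl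
    | succ k ih => intro y; rw [pow_succ, map_mul, Equiv.Perm.mul_apply, ih, h1]
  have k2 : ∀ k y, S (ρ (e2 ^ (2 * k)) y) ↔ S y := by
    intro k
    induction k with
    | zero => intro y; rw [mul_zero, pow_zero, map_one]; rfl
    | succ k ih =>
      intro y
      rw [Nat.mul_succ, pow_add, map_mul, Equiv.Perm.mul_apply, ih, h2]
  have h3 := (allB_iff _ _).1 chk_lab y.val y.2
  rw [Nat.beq_eq] at h3
  have e : rp (look LAB y) = ρ (e1 ^ (look EX y / 5)) (ρ (e2 ^ (2 * (look EX y % 5))) y) := by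
    apply Fin.ext
    rw [rp_val, ← h3]
    have h4 := itr_spec f1w (look EX y / 5) (ρ (e2 ^ (2 * (look EX y % 5))) y)
    have h5 := itr_spec f2w (2 * (look EX y % 5)) y
    change ((ρ (e2 ^ _) y : Fin 1755) : ℕ) = _ at h5
    change ((ρ (e1 ^ _) _ : Fin 1755) : ℕ) = _ at h4
    rw [h4, h5]; rfl
  rw [e, k1, k2]

theorem lab_lt (y : Fin 1755) : look LAB y < 75 := by
  have h3 := (allB_iff _ _).1 chk_lab_lt y.val y.2
  rw [Nat.ble_eq] at h3
  exact h3

/-- the set of a mask -/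
def ofMask (m : ℕ) : Finset (Fin 1755) := univ.filter fun y => m.testBit (look LAB y) = true

theorem mem_ofMask (m : ℕ) (y : Fin 1755) : y ∈ ofMask m ↔ m.testBit (look LAB y) = true := by simp [ofMask]

theorem sum_D1 (P : Fin 1755 → Prop) [DecidablePred P] :
    ((D (fun y : Fin 1755 => cls y.val) 1).filter P).card =
      ∑ s ∈ range 10, b2n (decide (∃ h : s + 1 < 1755, P ⟨s + 1, h⟩)) := by
  rw [card_filter]
  have h1 := sum_D rng1 (fun i => if h : i < 1755 then (if P ⟨i, h⟩ then 1 else 0) else 0)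
  have h2 : ∑ i ∈ D (fun y : Fin 1755 => cls y.val) 1, (if P i then 1 else 0) =
      ∑ q ∈ D (fun y : Fin 1755 => cls y.val) 1,
        (if h : q.val < 1755 then (if P ⟨q.val, h⟩ then 1 else 0) else 0) := by
    apply sum_congr rfl
    intro q _
    rw [dif_pos q.2]
  rw [h2, h1]
  apply sum_congr rfl
  intro s hs
  rw [mem_range] at hs
  rw [dif_pos (by omega : 1 + s < 1755), b2n_eq]
  have e : (⟨1 + s, by omega⟩ : Fin 1755) = ⟨s + 1, by omega⟩ := Fin.ext (by show 1 + s = s + 1; omega)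
  rw [e]
  have h3 : (∃ h : s + 1 < 1755, P ⟨s + 1, h⟩) ↔ P ⟨s + 1, by omega⟩ := ⟨fun ⟨_, h⟩ => h, fun h => ⟨by omega, h⟩⟩
  simp only [decide_eq_true_eq, h3]

/-- Every `F`-invariant `S d` is one of eight explicit sets. -/
theorem solve (hΔ : C.Δ.card = 2304) (hΩ : Fintype.card Ω = 4060) (M : YMap C ρ) (d : Ω) (hd : d ∈ C.Δ)
    (h1 : C.act e1 d = d) (h2 : C.act (e2 ^ 2) d = d) :
    ∃ m ∈ [G0, G1, G2, G3, B0, B1, B2, B3], M.S d = ofMask m := by
  classical
  have i1 : ∀ y, ρ e1 y ∈ M.S d ↔ y ∈ M.S d := by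
    intro y
    have := M.S_act e1 d y
    rwa [h1] at this
  have i2 : ∀ y, ρ (e2 ^ 2) y ∈ M.S d ↔ y ∈ M.S d := by
    intro y
    have := M.S_act (e2 ^ 2) d y
    rwa [h2] at this
  have hlab := inv_lab (S := fun y => y ∈ M.S d) i1 i2
  set x : ℕ → Bool := fun j => decide (rp j ∈ M.S d) with hx
  have heq : ∀ i < 75, ∑ s ∈ Finset.range 10, b2n (x (look EQ (10 * i + s))) =
      if x i = true then 6 else 5 := by
    intro i hi
    have h3 := eqn_h hΔ hΩ M (gw gen (HW i)) d hd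
    rw [sum_D1] at h3
    have h4 : (ρ (gw gen (HW i)) y0 ∈ M.S d) ↔ x i = true := by
      rw [hx]
      simp only [decide_eq_true_eq]
      exact Iff.rfl
    simp only [h4] at h3
    rw [← h3]
    apply sum_congr rfl
    intro s hs
    rw [mem_range] at hs
    congr 1
    have h5 := (allB_iff _ _).1 ((allB_iff _ _).1 chk_EQ i hi) s hs
    rw [Nat.beq_eq] at h5
    have h6 : look EQ (10 * i + s) = look LAB (evalW tab (HW i) (s + 1)) := h5.symm
    rw [h6]
    have hs1 : s + 1 < 1755 := by omega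
    have h7 := evalW_spec gen ρ tab hgen (HW i) ⟨s + 1, hs1⟩
    have h8 := hlab (ρ (gw gen (HW i)) ⟨s + 1, hs1⟩)
    rw [h7] at h8
    rw [hx]
    apply decide_eq_decide.2
    constructor
    · intro h; exact ⟨hs1, h8.2 h⟩
    · rintro ⟨_, h⟩; exact h8.1 h
  obtain ⟨m, hm, hm2⟩ := search_sound (by norm_num) okS cert lab_ok run_ok heq
  unfold okS at hm
  rw [anyL_iff] at hm
  obtain ⟨s, hs, hs2⟩ := hm
  rw [Nat.beq_eq] at hs2
  refine ⟨m, by rw [hs2]; exact hs, ?_⟩
  ext y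
  rw [mem_ofMask, ← hm2 _ (lab_lt y), hx]
  simp only [decide_eq_true_eq]
  exact hlab y

end Cfsg.Agent.SporRec.Ru.SolveRu
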