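import Cfsg.Agent.SporRec.R3.SchemeK

/-! Permutation representation from a finite set of vectors permuted by letters given by tables. -/

set_option autoImplicit false
set_option linter.unusedSectionVars false

namespace Cfsg.Agent.SporRec.Ru.VecRep

open Cfsg.Agent.SporRec.R3.Kernel Cfsg.Agent.SporRec.R3.Scheme Cfsg.Agent.SporRec.R3.SchemeK

/-- A set of vectors closed under a group gives a permutation representation on the index set. -/
theorem exists_rep {H V : Type*} [Group H] (act : H → V → V) (h1 : ∀ v, act 1 v = v)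
    (hm : ∀ g h v, act (g * h) v = act g (act h v)) {n : ℕ} (v : Fin n → V)
    (hinj : Function.Injective v) (hcl : ∀ h i, ∃ j, act h (v i) = v j) :
    ∃ ρ : H →* Equiv.Perm (Fin n), ∀ h i, act h (v i) = v (ρ h i) := by
  choose f hf using hcl
  have hinv : ∀ h i, f h⁻¹ (f h i) = i := by
    intro h i
    apply hinj
    rw [← hf, ← hf, ← hm, inv_mul_cancel, h1]
  refine ⟨{ toFun := fun h => ⟨f h, f h⁻¹, hinv h, fun i => ?_⟩, map_one' := ?_, map_mul' := ?_ }, ?_⟩
  · have := hinv h⁻¹ i
    rwa [inv_inv] at this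
  · ext i
    apply congrArg Fin.val
    show f 1 i = i
    apply hinj
    rw [← hf, h1]
  · intro g h
    ext i
    apply congrArg Fin.val
    show f (g * h) i = f g (f h i)
    apply hinj
    rw [← hf, hm, hf, hf]
  · intro h i
    exact hf h i

variable {ι : Type} {n : ℕ}

/-- the permutations given by tables -/
noncomputable def sg (tab : ι → ℕ) (inv : ι → ι)
    (hp : ∀ g, chkPerm n (tab g) (tab (inv g)) = true) (g : ι) : Equiv.Perm (Fin n) :=
  mkPerm n (tab g) (tab (inv g)) (hp g)

/-- the free group acting through the tables -/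
noncomputable def fr (tab : ι → ℕ) (inv : ι → ι)
    (hp : ∀ g, chkPerm n (tab g) (tab (inv g)) = true) : FreeGroup ι →* Equiv.Perm (Fin n) :=
  FreeGroup.lift (sg tab inv hp)

theorem fr_gen (tab : ι → ℕ) (inv : ι → ι) (hp : ∀ g, chkPerm n (tab g) (tab (inv g)) = true)
    (g : ι) (y : Fin n) : ((fr tab inv hp (FreeGroup.of g) y : Fin n) : ℕ) = look (tab g) y := by
  unfold fr
  rw [FreeGroup.lift_apply_of]
  rfl

/-- every root is moved down by the letter `m` -/
noncomputable def chkRoot (tab : ι → ℕ) (m : ι) (cls root : ℕ → ℕ) (n : ℕ) : Bool :=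
  allB (fun i => Bool.rec true (Bool.rec (Bool.rec false (Nat.ble (Nat.succ (look (tab m) i)) i)
      (Nat.ble (Nat.succ i) n)) true (Nat.beq i 0))
    (Nat.beq i (root (cls i)))) n

theorem trans_of_chk {G : Type*} [Group G] (hn : 0 < n) (tab : ι → ℕ) (gen : ι → G)
    (ρ : G →* Equiv.Perm (Fin n))
    (hgen : ∀ g (y : Fin n), ((ρ (gen g) y : Fin n) : ℕ) = look (tab g) y)
    (W : List (List ι)) (cls root : ℕ → ℕ) (h : chkStab n tab W cls root = true) (m : ι)
    (h2 : chkRoot tab m cls root n = true) : ∀ y : Fin n, ∃ g, ρ g y = ⟨0, hn⟩ := by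
  unfold chkStab at h
  rw [and3, Bool.and_eq_true, allL_iff, allB_iff] at h
  obtain ⟨_, h1⟩ := h
  unfold chkRoot at h2
  rw [allB_iff] at h2
  have key : ∀ (k : ℕ) (y : Fin n), y.val = k → ∃ g, ρ g y = ⟨0, hn⟩ := by
    intro k
    induction k using Nat.strong_induction_on with
    | _ k ih =>
      intro y hy
      by_cases h0 : y.val = 0
      · exact ⟨1, by rw [map_one]; exact Fin.ext h0⟩
      have h3 := h1 y.val y.2
      rw [or3, Bool.or_eq_true, Nat.beq_eq, anyL_iff] at h3
      rcases h3 with h3 | ⟨w, hw, h3⟩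
      · have h4 := h2 y.val y.2
        have e1 : Nat.beq y.val (root (cls y.val)) = true := by rw [Nat.beq_eq]; exact h3
        have e2 : Nat.beq y.val 0 = false := by rw [Bool.eq_false_iff, ne_eq, Nat.beq_eq]; exact h0
        rw [e1, e2] at h4
        change (Bool.rec false (Nat.ble (Nat.succ (look (tab m) y.val)) y.val)
          (Nat.ble (Nat.succ y.val) n) : Bool) = true at h4
        rw [and3, Bool.and_eq_true, Nat.ble_eq, Nat.ble_eq] at h4
        obtain ⟨g, hg⟩ := ih (look (tab m) y.val) (by rw [← hy]; exact h4.2) (ρ (gen m) y) (hgen m y)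
        exact ⟨g * gen m, by rw [map_mul, Equiv.Perm.mul_apply, hg]⟩
      · rw [and3, Bool.and_eq_true, Nat.ble_eq, Nat.beq_eq] at h3
        have e := evalW_spec gen ρ tab hgen w y
        obtain ⟨g, hg⟩ := ih (evalW tab w y.val) (by rw [← hy]; exact h3.1) (ρ (gw gen w) y) e
        exact ⟨g * gw gen w, by rw [map_mul, Equiv.Perm.mul_apply, hg]⟩
  intro y
  exact key _ y rfl

/-- Main construction: a group `H` generated by letters acting on vectors `v i`, the letters acting
by the tables; then `H` acts on the index set. -/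
theorem exists_rho {H V : Type*} [Group H] (act : H → V → V) (h1 : ∀ v, act 1 v = v)
    (hm : ∀ g h v, act (g * h) v = act g (act h v)) (hn : 0 < n) (v : Fin n → V)
    (tab : ι → ℕ) (inv : ι → ι) (hp : ∀ g, chkPerm n (tab g) (tab (inv g)) = true)
    (gen : ι → H) (hcl : Subgroup.closure (Set.range gen) = ⊤)
    (hv : ∀ g (i j : Fin n), (j : ℕ) = look (tab g) i → act (gen g) (v i) = v j)
    (hv0 : ∀ i : Fin n, v i = v ⟨0, hn⟩ → i = ⟨0, hn⟩)
    (W : List (List ι)) (cls root : ℕ → ℕ) (hs : chkStab n tab W cls root = true) (m : ι)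
    (hr : chkRoot tab m cls root n = true) :
    Function.Injective v ∧ ∃ ρ : H →* Equiv.Perm (Fin n), (∀ h i, act h (v i) = v (ρ h i)) ∧
      (∀ g (y : Fin n), ((ρ (gen g) y : Fin n) : ℕ) = look (tab g) y) ∧
      ∀ y : Fin n, ∃ g, ρ g y = ⟨0, hn⟩ := by
  have hA : ∀ w : FreeGroup ι, ∀ i, act (FreeGroup.lift gen w) (v i) = v (fr tab inv hp w i) := by
    intro w
    induction w using FreeGroup.induction_on with
    | C1 => intro i; rw [map_one, h1, map_one]; rfl
    | of g =>
      intro i
      rw [FreeGroup.lift_apply_of]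
      exact hv g i _ (fr_gen tab inv hp g i)
    | inv_of g ih =>
      intro i
      have := ih ((fr tab inv hp (FreeGroup.of g)⁻¹) i)
      rw [← Equiv.Perm.mul_apply, ← map_mul, mul_inv_cancel, map_one, Equiv.Perm.one_apply] at this
      rw [← this, ← hm, ← map_mul, inv_mul_cancel, map_one, h1]
    | mul x y hx hy =>
      intro i
      rw [map_mul, hm, hy, hx, map_mul]; rfl
  have htr := trans_of_chk hn tab FreeGroup.of (fr tab inv hp) (fr_gen tab inv hp) W cls root hs m hr
  have hinj : Function.Injective v := by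
    intro i j hij
    obtain ⟨w, hw⟩ := htr j
    have e1 := hA w i
    have e2 := hA w j
    rw [hij, e2, hw] at e1
    have e3 := hv0 _ e1.symm
    rw [← hw] at e3
    exact (fr tab inv hp w).injective e3
  have hsurj : Function.Surjective (FreeGroup.lift gen) := by
    rw [← MonoidHom.range_eq_top, FreeGroup.range_lift_eq_closure, hcl]
  obtain ⟨ρ, hρ⟩ := exists_rep act h1 hm v hinj (by
    intro h i
    obtain ⟨w, rfl⟩ := hsurj h
    exact ⟨_, hA w i⟩)
  have hfr : ∀ w i, ρ (FreeGroup.lift gen w) i = fr tab inv hp w i := by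
    intro w i
    apply hinj
    rw [← hρ, hA]
  refine ⟨hinj, ρ, hρ, ?_, ?_⟩
  · intro g y
    have := hfr (FreeGroup.of g) y
    rw [FreeGroup.lift_apply_of] at this
    rw [this]
    exact fr_gen tab inv hp g y
  · intro y
    obtain ⟨w, hw⟩ := htr y
    exact ⟨FreeGroup.lift gen w, by rw [hfr, hw]⟩

end Cfsg.Agent.SporRec.Ru.VecRep
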